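import Cfsg.Agent.Lib.ChevLift.Combos
import Cfsg.Agent.Lib.ChevStructure.Order.CertF4
import Cfsg.Agent.Lib.CurtisTits.AllTypes
import Cfsg.Agent.Lib.F4Mult45.Data

/-!
The group F4(2) on its root elements of parameter one: squares, commutators, the action of the fundamental
reflections, and the unipotent subgroup as a polycyclic group of odd index.
-/

set_option autoImplicit false
set_option maxRecDepth 100000
set_option linter.unusedSectionVars false

namespace Cfsg.Agent.Lib.F4Mult45

open Cfsg.Lie
open Cfsg.Agent.Lib.ChevStructure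
open Cfsg.Agent.Lib.CurtisTits (terms evalT X_comm)
open Cfsg.Agent.Lib.Schur
open scoped MatrixGroups Matrix commutatorElement

universe u

/-- The certified table. -/
noncomputable abbrev C : Core chevF4 := Cert.F4.core

theorem commOK : CommOK C := C.commOK_mild mildF4

/-- The root with a shifted index; the positive roots have indices below 24. -/
def rt (k : ℕ) : Rt chevF4 := ⟨(24 + k) % 48, Nat.mod_lt _ (by decide)⟩

/-- The roots occurring in the commutator of two root elements of parameter one. -/
def oddRoots (a b : Rt chevF4) : List (Rt chevF4) :=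
  ((terms b a).filter fun e => decide (e.2.1 % 2 ≠ 0)).map fun e => e.1

variable (F : Type u) [Field F] [Fintype F]

/-- The root element of parameter one. -/
noncomputable def hel (r : Rt chevF4) : ↥(chevF4.group F) := ⟨C.X F r 1, C.X_mem_group r 1⟩

/-- The positive root elements, by shifted index. -/
noncomputable def gel (k : ℕ) : ↥(chevF4.group F) := hel F (rt k)

/-- The fundamental monomial elements. -/
noncomputable def npel (i : Fin chevF4.rank) : ↥(chevF4.group F) := ⟨C.P F i, C.P_mem_group i⟩

variable {F} (hF : Fintype.card F = 2)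
include hF

theorem eq01 (x : F) : x = 0 ∨ x = 1 := by
  classical
  have h : ({0, 1} : Finset F) = Finset.univ :=
    Finset.eq_univ_of_card _ (by rw [Finset.card_pair zero_ne_one, hF])
  have := h.ge (Finset.mem_univ x)
  simpa using this

theorem one_add_one : (1 : F) + 1 = 0 :=
  (eq01 hF _).resolve_right fun h => one_ne_zero (add_eq_right.1 h)

theorem neg_one_eq : (-1 : F) = 1 := neg_eq_of_add_eq_zero_left (one_add_one hF)

theorem cast_int (c : ℤ) : (c : F) = if c % 2 = 0 then 0 else 1 := by
  conv_lhs => rw [← Int.mul_ediv_add_emod c 2]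
  rw [Int.cast_add, Int.cast_mul, Int.cast_ofNat, show (2 : F) = 1 + 1 by norm_num, one_add_one hF, zero_mul,
    zero_add]
  rcases Int.emod_two_eq c with h | h <;> simp [h]

theorem hel_sq (r : Rt chevF4) : hel F r * hel F r = 1 :=
  Subtype.ext (by show C.X F r 1 * C.X F r 1 = 1; rw [C.X_add, one_add_one hF, C.X_zero])

theorem hel_inv (r : Rt chevF4) : (hel F r)⁻¹ = hel F r := inv_eq_of_mul_eq_one_right (hel_sq hF r)

theorem hel_comm {a b : Rt chevF4} (h : a ≠ b) (h' : a ≠ b.rev) :
    ⁅hel F a, hel F b⁆ = ((oddRoots a b).map (hel F)).prod := by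
  apply Subtype.ext
  have e := X_comm C commOK b a h h' (1 : F) 1
  rw [C.X_inv, C.X_inv, neg_one_eq hF] at e
  rw [commutatorElement_def, hel_inv hF, hel_inv hF]
  show C.X F a 1 * C.X F b 1 * C.X F a 1 * C.X F b 1 = _
  rw [e, evalT, oddRoots]
  induction terms b a with
  | nil => simp
  | cons x l ih =>
    rw [List.map_cons, List.prod_cons, ih, neg_one_eq hF, one_pow, one_pow, mul_one, mul_one, cast_int hF,
      List.filter_cons]
    by_cases hx : x.2.1 % 2 = 0
    · rw [if_pos hx, C.X_zero, one_mul, if_neg (by simp [hx])]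
    · rw [if_neg hx, if_pos (by simp [hx]), List.map_cons, List.map_cons, List.prod_cons, Subgroup.coe_mul]
      rfl

theorem npel_conj (i : Fin chevF4.rank) (r : Rt chevF4) :
    npel F i * hel F r * (npel F i)⁻¹ = hel F (C.w i r) := by
  apply Subtype.ext
  show C.P F i * C.X F r 1 * (C.P F i)⁻¹ = C.X F (C.w i r) 1
  rw [C.P_X_conj]
  congr 1
  rcases C.η_one i r with e | e <;> simp [e, neg_one_eq hF]

omit hF in
/-- The check of the relations. -/
def relB : Bool :=
  (List.range 24).all fun i => (List.range (i + 1)).all fun j =>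
    if i = j then (Data.pres.word i j).isEmpty else
      !decide (rt i = rt j) && !decide (rt i = (rt j).rev) &&
        ((Data.pres.word i j).map rt == rt i :: oddRoots (rt i) (rt j))

omit hF in
theorem relB_true : relB = true := by decide +kernel

theorem el_map {w : List ℕ} : PcCollect.Data.el (gel F) w = ((w.map rt).map (hel F)).prod := by
  rw [PcCollect.Data.el, List.map_map]
  rfl

theorem rel : ∀ i < Data.pres.n, ∀ j ≤ i,
    PcCollect.Data.el (gel F) (Data.pres.lhs i j) = PcCollect.Data.el (gel F) (Data.pres.rhs i j) := by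
  intro i (hi : i < 24) j hj
  have h := relB_true
  simp only [relB, List.all_eq_true, List.mem_range] at h
  have h' := h i hi j (by omega)
  rw [PcCollect.Data.lhs, PcCollect.Data.rhs]
  by_cases hij : i = j
  · subst hij
    rw [if_pos rfl, List.isEmpty_iff] at h'
    rw [if_pos rfl, if_pos rfl, h']
    simp [PcCollect.Data.el, Data.pres, gel, hel_sq hF]
  · simp only [if_neg hij, Bool.and_eq_true, Bool.not_eq_true', decide_eq_false_iff_not, beq_iff_eq] at h'
    rw [if_neg hij, if_neg hij, PcCollect.Data.el_cons, PcCollect.Data.el_cons, PcCollect.Data.el_cons,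
      el_map hF, el_map hF, h'.2, List.map_cons, List.prod_cons, ← hel_comm hF h'.1.1 h'.1.2,
      commutatorElement_def, hel_inv hF, hel_inv hF]
    show gel F i * (gel F j * _) = _
    simp only [gel, List.map_nil, List.prod_nil, mul_one]
    have e1 := hel_sq (F := F) hF (rt i)
    have e2 := hel_sq (F := F) hF (rt j)
    set x := hel F (rt i); set y := hel F (rt j)
    calc x * y = (y * (x * x) * y) * (x * y) := by rw [e1, mul_one, e2, one_mul]
      _ = _ := by group

/-! ### The unipotent subgroup -/

/-- The subgroup on the positive root elements. -/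
noncomputable def unip (F : Type u) [Field F] [Fintype F] : Subgroup ↥(chevF4.group F) :=
  Subgroup.closure (gel F '' {l | l < Data.pres.n})

omit hF in
theorem rt_val {k : ℕ} (hk : k < 24) : (rt k).val = 24 + k := Nat.mod_eq_of_lt (by omega)

omit hF in
theorem rt_pos {k : ℕ} (hk : k < 24) : rt k ∈ C.Pos := by
  show chevF4.nroots ≤ 2 * (rt k).val
  rw [rt_val hk, show chevF4.nroots = 48 from rfl]
  omega

omit hF in
theorem exists_rt {r : Rt chevF4} (hr : r ∈ C.Pos) : ∃ k < 24, rt k = r := by
  have h1 : chevF4.nroots ≤ 2 * r.val := hr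
  have h2 := r.isLt
  have hn : chevF4.nroots = 48 := rfl
  exact ⟨r.val - 24, by omega, Fin.ext (by rw [rt_val (by omega)]; omega)⟩

theorem map_closure_US (S : Set ℕ) (hS : ∀ k ∈ S, k < 24) :
    (Subgroup.closure (gel F '' S)).map (chevF4.group F).subtype = C.US F (rt '' S) := by
  rw [MonoidHom.map_closure, Core.US]
  refine le_antisymm (Subgroup.closure_mono ?_) ((Subgroup.closure_le _).2 ?_)
  · rintro _ ⟨_, ⟨k, hk, rfl⟩, rfl⟩
    exact ⟨rt k, ⟨k, hk, rfl⟩, 1, rfl⟩
  · rintro _ ⟨_, ⟨k, hk, rfl⟩, t, rfl⟩
    rcases eq01 hF t with rfl | rfl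
    · rw [C.X_zero]; exact one_mem _
    · exact Subgroup.subset_closure ⟨gel F k, ⟨k, hk, rfl⟩, rfl⟩

theorem unip_map : (unip F).map (chevF4.group F).subtype = C.US F C.Pos := by
  rw [unip, show Data.pres.n = 24 from rfl, map_closure_US hF {l | l < 24} fun k hk => hk]
  congr 1
  refine Set.eq_of_subset_of_subset ?_ fun r hr => ?_
  · rintro _ ⟨k, hk, rfl⟩; exact rt_pos hk
  · obtain ⟨k, hk, rfl⟩ := exists_rt hr
    exact ⟨k, hk, rfl⟩

theorem mem_unip {x : ↥(chevF4.group F)} : x ∈ unip F ↔ (x : GL chevF4.Idx F) ∈ C.US F C.Pos := by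
  rw [← unip_map hF]
  exact (Subgroup.mem_map_iff_mem Subtype.val_injective).symm

theorem card_unip : Nat.card (unip F) = 2 ^ 24 := by
  rw [← Subgroup.card_map_of_injective (chevF4.group F).subtype_injective, unip_map hF,
    commOK.card_posUS, Nat.card_eq_fintype_card, hF, show chevF4.nroots / 2 = 24 from rfl]

theorem card_group_eq : Nat.card ↥(chevF4.group F) = 2 ^ 24 * (3 * 63 * 255 * 4095) := by
  have h := Order.CertF4.card_group hF
  rw [Finset.prod_eq_one (fun i _ => by simp), one_mul] at h
  rw [h, show chevF4.nroots / 2 = 24 from rfl]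
  norm_num

theorem finite_group : Finite ↥(chevF4.group F) :=
  Nat.finite_of_card_ne_zero (by rw [card_group_eq hF]; norm_num)

theorem unip_index : (unip F).index = 3 * 63 * 255 * 4095 := by
  have h := (unip F).card_mul_index
  rw [card_unip hF, card_group_eq hF] at h
  exact Nat.eq_of_mul_eq_mul_left (by norm_num) h

theorem strict : ∀ j < Data.pres.n,
    gel F j ∉ Subgroup.closure (gel F '' {l | j < l ∧ l < Data.pres.n}) := by
  intro j (hj : j < 24) h
  set r := rt j with hr
  have h' : C.X F r 1 ∈ C.US F (rt '' {l | j < l ∧ l < 24}) := by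
    rw [← map_closure_US hF _ fun k hk => hk.2]
    exact Subgroup.mem_map_of_mem _ h
  have hp : r ∈ C.Pos := rt_pos hj
  have hup := C.US_le_upperU F (σ := 1) (c := C.ht r) (C.ht_pos hp).le
    (S := rt '' {l | j < l ∧ l < 24}) (fun s hs => by
      obtain ⟨l, ⟨hl1, hl2⟩, rfl⟩ := hs
      rw [one_mul]
      refine C.ht_lt ?_
      show (rt j).val < (rt l).val
      rw [rt_val hj, rt_val hl2]
      omega) (inv_mem h')
  refine one_ne_zero (α := F) (C.eq_zero_of_co_mul F (k := r) fun m => ?_)
  have e := C.coord_zero F hp hup 1 m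
  rw [mul_inv_cancel] at e
  rw [← e]
  simp

omit hF in
/-- The check of the conjugations. -/
noncomputable def conjB : Bool :=
  (List.range Data.pres.conjs.length).all fun s =>
    Nat.blt s chevF4.rank &&
    (List.range (Data.pres.conjs.getD s ([], [])).1.length).all fun k =>
      if h : s < chevF4.rank then
        (((Data.pres.conjs.getD s ([], [])).1.getD k []).map fun a => C.w ⟨s, h⟩ (rt a)) ==
          ((Data.pres.conjs.getD s ([], [])).2.getD k []).map rt
      else false

omit hF in
theorem conjB_true : conjB = true := by decide +kernel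

theorem conj_ok : ∀ uv ∈ Data.pres.conjs, ∃ y : ↥(chevF4.group F), ∀ k < uv.1.length,
    y * PcCollect.Data.el (gel F) (uv.1.getD k []) * y⁻¹ = PcCollect.Data.el (gel F) (uv.2.getD k []) := by
  intro uv huv
  obtain ⟨s, hs, rfl⟩ := List.getElem_of_mem huv
  have h := conjB_true
  simp only [conjB, List.all_eq_true, List.mem_range, Bool.and_eq_true, Nat.blt_eq] at h
  obtain ⟨hs', h⟩ := h s hs
  rw [List.getD_eq_getElem _ _ hs] at h
  refine ⟨npel F ⟨s, hs'⟩, fun k hk => ?_⟩
  have h2 := h k hk
  rw [dif_pos hs', beq_iff_eq] at h2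
  rw [el_map hF, el_map hF, ← h2, ← MulAut.conj_apply, map_list_prod, List.map_map, List.map_map, List.map_map]
  exact congrArg List.prod (List.map_congr_left fun a _ => npel_conj hF _ _)

end Cfsg.Agent.Lib.F4Mult45
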