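import Cfsg.Agent.Lib.Schur.PcCollect

/-!
The collection certificate with additional linear conditions on the tails: under these conditions a stem
extension with kernel of order p is impossible.
-/

set_option autoImplicit false

namespace Cfsg.Agent.Lib.F4Mult45

open Cfsg.Agent.Lib.Schur Cfsg.Agent.Lib.Schur.PcCollect
open Cfsg.Agent.Lib.Schur.PcCollect.Data Subgroup

/-- The check with additional forms, counted after the equations. -/
def certOk' (D : PcCollect.Data) {α : Type} [BEq α] (V : Vec D.p α) (eqs : List (Equat × α)) (extra : List α)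
    (combos : List (List ℕ)) : Bool :=
  ((List.range D.n).all fun i => (List.range (i + 1)).all fun j =>
      (D.word i j).all fun l => Nat.blt j l && Nat.blt l D.n) &&
    eqs.all (D.entryOk V) &&
      (List.range D.n).all fun i => (List.range (i + 1)).all fun j =>
        ((combos.getD (pidx i j) []).all fun e => Nat.blt e (eqs.length + extra.length)) &&
        V.isZero (V.add (V.ofList (pidx i j :: D.delta i j))
          ((combos.getD (pidx i j) []).foldr
            (fun e a => V.add ((eqs.map Prod.snd ++ extra).getD e V.zero) a) V.zero))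

section

variable (D : PcCollect.Data) {Γ : Type*} [Group Γ] (G : ℕ → Γ) (Z : ZMod D.p → Γ) (tv : ℕ → ZMod D.p)
variable (hp : 0 < D.p) (hZ : ∀ a b, Z (a + b) = Z a * Z b) (hZc : ∀ a (g : Γ), g * Z a = Z a * g)
  (hrel : ∀ i < D.n, ∀ j ≤ i, el G (D.lhs i j) = Z (tv (pidx i j)) * el G (D.rhs i j))
variable {α : Type} [BEq α] [LawfulBEq α] (V : Vec D.p α)

include hZ hZc hrel hp in
theorem exists_corrected' (hinj : Function.Injective Z) {eqs : List (Equat × α)} {extra : List α}
    {combos : List (List ℕ)} (hcert : certOk' D V eqs extra combos = true)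
    (hextra : ∀ x ∈ extra, V.dot tv x = 0) (hconj : ∀ uv ∈ D.conjs, D.ConjOk G Z uv) :
    ∀ i < D.n, ∀ j ≤ i, el (fun a => Z (D.corr tv a) * G a) (D.lhs i j) =
      el (fun a => Z (D.corr tv a) * G a) (D.rhs i j) := by
  intro i hi j hj
  simp only [certOk', Bool.and_eq_true, List.all_eq_true, List.mem_range, Nat.blt_eq] at hcert
  obtain ⟨⟨-, heq⟩, hc⟩ := hcert
  obtain ⟨hlt, hz⟩ := hc i hi j (by omega)
  have h := V.dot_isZero tv _ hz
  rw [V.dot_add, V.dot_ofList] at h
  have h0 : V.dot tv ((combos.getD (pidx i j) []).foldr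
      (fun e a => V.add ((eqs.map Prod.snd ++ extra).getD e V.zero) a) V.zero) = 0 := by
    generalize combos.getD (pidx i j) [] = l at hlt
    induction l with
    | nil => exact V.dot_zero tv
    | cons e l ih =>
      rw [List.foldr_cons, V.dot_add, ih fun a ha => hlt a (List.mem_cons_of_mem _ ha), add_zero]
      have he := hlt e List.mem_cons_self
      by_cases hlt' : e < eqs.length
      · rw [List.getD_eq_getElem _ _ (by simp; omega), List.getElem_append_left (by simpa using hlt'),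
          List.getElem_map]
        have hok := heq _ (List.getElem_mem hlt')
        rw [entryOk, Bool.and_eq_true, beq_iff_eq] at hok
        rw [← hok.2, V.dot_ofList, List.map_append, List.sum_append, sum_map_neg D tv _ hp,
          ← sub_eq_add_neg, sub_eq_zero]
        exact eq_spec D G Z tv hp hZ hZc hrel hinj _ hok.1 hconj
      · rw [List.getD_eq_getElem _ _ (by simp; omega), List.getElem_append_right (by simp; omega)]
        exact hextra _ (List.getElem_mem _)
  have hflat : (((D.word i j).flatMap fun l => D.phi.getD l []).map tv).sum =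
      ((D.word i j).map (D.corr tv)).sum := sum_map_flatMap D tv _ _
  rw [h0, add_zero, List.map_cons, List.sum_cons, delta, List.map_append, List.sum_append,
    sum_map_neg D tv _ hp, hflat] at h
  rw [el_corr D G Z tv hZ hZc, el_corr D G Z tv hZ hZc, hrel i hi j hj, ← mul_assoc, ← hZ]
  congr 2
  rw [lhs, rhs]
  split_ifs with hij
  · rw [if_pos hij, List.map_nil, List.sum_nil, zero_add] at h
    rw [List.map_replicate, List.sum_replicate, nsmul_eq_mul, ZMod.natCast_self, zero_mul]
    linear_combination h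
  · rw [if_neg hij] at h
    simp only [List.map_cons, List.sum_cons, List.map_nil, List.sum_nil, add_zero]
    change tv (pidx i j) + (D.corr tv i + _) = 0 at h
    linear_combination h

end

universe u

/-- The certificate with additional forms excludes stem extensions with kernel of order p satisfying them. -/
theorem false_of_cert {G : Type u} [Group G] [Finite G] (D : PcCollect.Data) (hp : D.p.Prime)
    {α : Type} [BEq α] [LawfulBEq α] (V : Vec D.p α) (g : ℕ → G) {eqs : List (Equat × α)} {extra : List α}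
    {combos : List (List ℕ)} (hcert : certOk' D V eqs extra combos = true)
    (hrel : ∀ i < D.n, ∀ j ≤ i, Data.el g (D.lhs i j) = Data.el g (D.rhs i j))
    (hstrict : ∀ j < D.n, g j ∉ closure (g '' {l | j < l ∧ l < D.n}))
    (hconj : ∀ uv ∈ D.conjs, ∃ y : G,
      ∀ k < uv.1.length, y * Data.el g (uv.1.getD k []) * y⁻¹ = Data.el g (uv.2.getD k []))
    (hidx : ¬ D.p ^ (D.n + 1) ∣ Nat.card G) {Γ : Type u} [Group Γ] [Finite Γ] (σ : Γ →* G)
    (hσ : Cfsg.IsStemExtension σ) (hcard : Nat.card σ.ker = D.p)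
    (hextra : ∀ (G₀ : ℕ → Γ) (Z : ZMod D.p → Γ) (tv : ℕ → ZMod D.p), (∀ i, σ (G₀ i) = g i) →
      (∀ a b, Z (a + b) = Z a * Z b) → (∀ a, σ (Z a) = 1) → Function.Injective Z →
      (∀ i < D.n, ∀ j ≤ i, Data.el G₀ (D.lhs i j) = Z (tv (pidx i j)) * Data.el G₀ (D.rhs i j)) →
      ∀ x ∈ extra, V.dot tv x = 0) : False := by
  haveI : Fact D.p.Prime := ⟨hp⟩
  haveI : NeZero D.p := ⟨hp.ne_zero⟩
  obtain ⟨z, hz1⟩ : ∃ z : σ.ker, z ≠ 1 := by
    haveI : Finite σ.ker := inferInstance
    exact @exists_ne _ (Finite.one_lt_card_iff_nontrivial.1 (by rw [hcard]; exact hp.one_lt)) 1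
  have hzne : (z : Γ) ≠ 1 := fun h => hz1 (Subtype.ext h)
  have hzp : z ^ D.p = 1 := by rw [← hcard]; exact pow_card_eq_one'
  have hord : orderOf z = D.p := orderOf_eq_prime hzp hz1
  let Z : ZMod D.p → Γ := fun t => (z : Γ) ^ t.val
  have hzord : orderOf (z : Γ) = D.p := by rw [Subgroup.orderOf_coe, hord]
  have hZ : ∀ s t, Z (s + t) = Z s * Z t := by
    intro s t
    simp only [Z]
    have h := pow_mod_orderOf (z : Γ) (s.val + t.val)
    rw [hzord] at h
    rw [← pow_add, ZMod.val_add, h]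
  have hZc : ∀ t (x : Γ), x * Z t = Z t * x := fun t x =>
    mem_center_iff.1 (pow_mem (hσ.2.1 z.2) _) x
  have hZinj : Function.Injective Z := fun s t hst => ZMod.val_injective _
    (pow_injOn_Iio_orderOf (by rw [hzord]; exact ZMod.val_lt s) (by rw [hzord]; exact ZMod.val_lt t) hst)
  have hZk : ∀ t, σ (Z t) = 1 := fun t => by
    rw [map_pow, show σ (z : Γ) = 1 from z.2, one_pow]
  have hexZ : ∀ x : Γ, σ x = 1 → ∃ t, x = Z t := by
    intro x hx
    have htop : zpowers z = ⊤ :=
      Subgroup.eq_top_of_card_eq _ (by rw [Nat.card_zpowers, hord, hcard])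
    obtain ⟨k, hk⟩ := (mem_powers_iff_mem_zpowers (x := z) (y := (⟨x, hx⟩ : σ.ker))).2
      (htop.ge (mem_top _))
    refine ⟨(k : ZMod D.p), ?_⟩
    have hk' : (z : Γ) ^ k = x := congrArg Subtype.val hk
    simp only [Z]
    have h := pow_mod_orderOf (z : Γ) k
    rw [hzord] at h
    rw [ZMod.val_natCast, h, hk']
  choose L hL using hσ.1
  let G₀ : ℕ → Γ := fun i => L (g i)
  have hσel : ∀ (f : ℕ → Γ), (∀ i, σ (f i) = g i) → ∀ l, σ (Data.el f l) = Data.el g l := fun f hf l => by
    rw [Data.el, Data.el, map_list_prod, List.map_map]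
    exact congrArg List.prod (List.map_congr_left fun i _ => hf i)
  have htv : ∀ k, ∃ t, ∀ i < D.n, ∀ j ≤ i, pidx i j = k →
      Data.el G₀ (D.lhs i j) = Z t * Data.el G₀ (D.rhs i j) := by
    intro k
    by_cases hk : ∃ i < D.n, ∃ j ≤ i, pidx i j = k
    · obtain ⟨i, hi, j, hj, rfl⟩ := hk
      obtain ⟨t, ht⟩ := hexZ (Data.el G₀ (D.lhs i j) * (Data.el G₀ (D.rhs i j))⁻¹) (by
        rw [map_mul, map_inv, hσel G₀ (fun a => hL _), hσel G₀ (fun a => hL _), hrel i hi j hj,
          mul_inv_cancel])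
      refine ⟨t, fun i' _ j' hj' he => ?_⟩
      obtain ⟨rfl, rfl⟩ := pidx_inj hj' hj he
      exact mul_inv_eq_iff_eq_mul.1 ht
    · exact ⟨0, fun i hi j hj he => absurd ⟨i, hi, j, hj, he⟩ hk⟩
  choose tv htv using htv
  have hrel₀ : ∀ i < D.n, ∀ j ≤ i,
      Data.el G₀ (D.lhs i j) = Z (tv (pidx i j)) * Data.el G₀ (D.rhs i j) :=
    fun i hi j hj => htv _ i hi j hj rfl
  have hconj₀ : ∀ uv ∈ D.conjs, D.ConjOk G₀ Z uv := by
    intro uv huv
    obtain ⟨y, hy⟩ := hconj uv huv
    refine ⟨L y, fun k hk => ?_⟩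
    obtain ⟨t, ht⟩ := hexZ (L y * Data.el G₀ (uv.1.getD k []) * (L y)⁻¹ * (Data.el G₀ (uv.2.getD k []))⁻¹) (by
      rw [map_mul, map_mul, map_mul, map_inv, map_inv, hσel G₀ (fun a => hL _), hσel G₀ (fun a => hL _),
        hL, hy k hk, mul_inv_cancel])
    exact ⟨t, mul_inv_eq_iff_eq_mul.1 ht⟩
  let G₁ : ℕ → Γ := fun a => Z (D.corr tv a) * G₀ a
  have hσ₁ : ∀ i, σ (G₁ i) = g i := fun i => by rw [map_mul, hZk, one_mul]; exact hL _
  have hW : ∀ i < D.n, ∀ j ≤ i, ∀ l ∈ D.word i j, j < l ∧ l < D.n := by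
    intro i hi j hj l hl
    have h := hcert
    simp only [certOk', Bool.and_eq_true, List.all_eq_true, List.mem_range, Nat.blt_eq] at h
    exact h.1.1 i hi j (by omega) l hl
  have hrel₁ : ∀ i < D.n, ∀ j ≤ i, Data.el G₁ (D.lhs i j) = Data.el G₁ (D.rhs i j) :=
    exists_corrected' D G₀ Z tv hp.pos hZ hZc hrel₀ V hZinj hcert
      (hextra G₀ Z tv (fun i => hL _) hZ hZk hZinj hrel₀) hconj₀
  have himg : ∀ s : Set ℕ, (closure (G₁ '' s)).map σ = closure (g '' s) := fun s => by
    rw [MonoidHom.map_closure, Set.image_image]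
    simp only [hσ₁]
  have hstrict₁ : ∀ j < D.n, G₁ j ∉ closure (G₁ '' {l | j < l ∧ l < D.n}) := fun j hj hmem =>
    hstrict j hj (by rw [← himg, ← hσ₁ j]; exact mem_map_of_mem σ hmem)
  set C := closure (G₁ '' {l | l < D.n}) with hC
  have hCcard : Nat.card C = D.p ^ D.n := card_series D hp G₁ hW hrel₁ hstrict₁
  have hPcard : Nat.card (C.map σ) = D.p ^ D.n := by
    rw [hC, himg]
    exact card_series D hp g hW hrel hstrict
  have hbij : Function.Bijective (fun x : C => (⟨σ x, mem_map_of_mem σ x.2⟩ : C.map σ)) :=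
    (Nat.bijective_iff_surjective_and_card _).2 ⟨fun ⟨_, x, hx, hxy⟩ => ⟨⟨x, hx⟩, Subtype.ext hxy⟩,
      hCcard.trans hPcard.symm⟩
  have hCker : ∀ x ∈ C, σ x = 1 → x = 1 := fun x hx h1 =>
    congrArg Subtype.val (hbij.1 (a₁ := ⟨x, hx⟩) (a₂ := 1) (Subtype.ext (by simp [h1])))
  have hnd : ¬ D.p ∣ (C.map σ).index := fun hd => hidx (by
    rw [← (C.map σ).card_mul_index, hPcard, pow_succ]
    exact Nat.mul_dvd_mul_left _ hd)
  have hmem := Fusion.mem_commutator_comap hσ z.2 hp
    (by rw [← coe_pow, hzp, coe_one]) (C.map σ) hnd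
  have hle : ⁅(C.map σ).comap σ, (C.map σ).comap σ⁆ ≤ C := by
    rw [commutator_le]
    intro x hx y hy
    obtain ⟨c, hc, hcx⟩ := hx
    obtain ⟨d, hd, hdy⟩ := hy
    rw [Fusion.commutator_congr hσ.2.1 hcx.symm hdy.symm, commutatorElement_def]
    exact C.mul_mem (C.mul_mem (C.mul_mem hc hd) (C.inv_mem hc)) (C.inv_mem hd)
  exact hzne (hCker _ (hle hmem) z.2)

end Cfsg.Agent.Lib.F4Mult45
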