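import Cfsg.Agent.Lib.ChevLift.Mult
import Cfsg.Agent.Lib.Schur.Fusion
import Cfsg.Agent.Lib.F4Mult45.Basic
import Cfsg.Agent.Lib.F4Mult45.CertOk
import Cfsg.Agent.S1078

/-!
Every stem extension of F4(2) has kernel generated by one element of order at most two, a product of three
commutators of lifted root elements.
-/

set_option autoImplicit false
set_option maxRecDepth 100000
set_option linter.unusedSectionVars false

namespace Cfsg.Agent.Lib.F4Mult45

open Cfsg.Lie
open Cfsg.Agent.Lib.ChevStructure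
open Cfsg.Agent.Lib.CurtisTits (terms evalT coverMap coverMap_gen scGen_of)
open Cfsg.Agent.Lib.Schur
open Cfsg.Agent.Lib.Schur.Fusion (commutator_congr)
open scoped MatrixGroups Matrix commutatorElement

universe u

/-- A root by its number. -/
def q48 (n : ℕ) : Rt chevF4 := ⟨n % 48, Nat.mod_lt _ (by decide)⟩

/-- The two root subgroups commute. -/
def pcB (r a : Rt chevF4) : Bool :=
  decide (r = a) || (!decide (r = a.rev) && (oddRoots r a).isEmpty)

/-- The product of three commutators. -/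
def yv {Γ : Type*} [Group Γ] (f : ℕ → Γ) : Γ := ⁅f 9, f 5⁆ * ⁅f 10, f 2⁆⁻¹ * ⁅f 17, f 0⁆

theorem pc_facts : (pcB (q48 33) (q48 10) && pcB (q48 33) (q48 44) && pcB (q48 17) (q48 8) &&
    pcB (q48 17) (q48 44) && pcB (q48 34) (q48 7) && pcB (q48 34) (q48 47) && pcB (q48 34) (q48 15) &&
    pcB (q48 24) (q48 15) && pcB (q48 24) (q48 47) && pcB (q48 36) (q48 15) && pcB (q48 36) (q48 47) &&
    pcB (q48 36) (q48 42)) = true := by decide +kernel

theorem odd_facts : oddRoots (q48 10) (q48 44) = [q48 36] ∧ oddRoots (q48 8) (q48 44) = [q48 34] ∧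
    oddRoots (q48 7) (q48 47) = [q48 36, q48 17] ∧ oddRoots (q48 15) (q48 47) = [q48 42] ∧
    oddRoots (q48 33) (q48 29) = [q48 36] ∧ oddRoots (q48 34) (q48 26) = [q48 36, q48 42] ∧
    oddRoots (q48 41) (q48 24) = [q48 42] ∧ oddRoots (q48 24) (q48 41) = [q48 42] := by decide +kernel

theorem ne_facts : (q48 10 ≠ q48 44 ∧ q48 10 ≠ (q48 44).rev) ∧ (q48 8 ≠ q48 44 ∧ q48 8 ≠ (q48 44).rev) ∧
    (q48 7 ≠ q48 47 ∧ q48 7 ≠ (q48 47).rev) ∧ (q48 15 ≠ q48 47 ∧ q48 15 ≠ (q48 47).rev) ∧
    (q48 33 ≠ q48 29 ∧ q48 33 ≠ (q48 29).rev) ∧ (q48 34 ≠ q48 26 ∧ q48 34 ≠ (q48 26).rev) ∧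
    (q48 24 ≠ q48 41 ∧ q48 24 ≠ (q48 41).rev) := by decide +kernel

variable {F : Type u} [Field F] [Fintype F] (hF : Fintype.card F = 2)
include hF

theorem pcB_sound {r a : Rt chevF4} (h : pcB r a = true) : Commute (hel F r) (hel F a) := by
  simp only [pcB, Bool.or_eq_true, Bool.and_eq_true, decide_eq_true_eq, Bool.not_eq_true',
    decide_eq_false_iff_not, List.isEmpty_iff] at h
  rcases eq_or_ne r a with rfl | hne
  · rfl
  · obtain ⟨h1, h2⟩ := h.resolve_left hne
    rw [← commutatorElement_eq_one_iff_commute, hel_comm hF hne h1, h2]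
    simp

section Central

variable {Γ : Type u} [Group Γ] {σ : Γ →* ↥(chevF4.group F)} (hk : σ.ker ≤ Subgroup.center Γ)
  {A : Rt chevF4 → Γ} (hA : ∀ r, σ (A r) = hel F r)
include hk hA

theorem lift_prod (l : List (Rt chevF4)) : σ (l.map A).prod = (l.map (hel F)).prod := by
  rw [map_list_prod, List.map_map]
  exact congrArg List.prod (List.map_congr_left fun a _ => hA a)

omit hA in
theorem commute_of_map {x p p' : Γ} (he : σ p = σ p') (h : Commute x p) : Commute x p' := by
  have hc : p⁻¹ * p' ∈ Subgroup.center Γ := hk (by rw [MonoidHom.mem_ker, map_mul, map_inv, he, inv_mul_cancel])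
  have := h.mul_right (show Commute x (p⁻¹ * p') from Subgroup.mem_center_iff.1 hc x)
  rwa [mul_inv_cancel_left] at this

theorem comm_wit {r a b : Rt chevF4} (h1 : pcB r a = true) (h2 : pcB r b = true)
    (hab : a ≠ b ∧ a ≠ b.rev) : Commute (A r) ((oddRoots a b).map A).prod := by
  refine commute_of_map hF hk (p := ⁅A a, A b⁆) ?_ (mul_inv_eq_iff_eq_mul.1 ?_)
  · rw [map_commutatorElement, hA, hA, hel_comm hF hab.1 hab.2, lift_prod hF hk hA]
  · rw [conjugate_commutatorElement]
    refine commutator_congr hk ?_ ?_ <;> rw [map_mul, map_mul, map_inv, hA, hA]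
    · rw [(pcB_sound hF h1).eq, mul_inv_cancel_right]
    · rw [(pcB_sound hF h2).eq, mul_inv_cancel_right]

/-- The commutator of two lifts squares to one if one of them commutes with a lift of its image. -/
theorem comm_sq {a b : Rt chevF4} (hab : a ≠ b ∧ a ≠ b.rev)
    (h : Commute (A a) ((oddRoots a b).map A).prod) : ⁅A a, A b⁆ * ⁅A a, A b⁆ = 1 := by
  have hc : Commute (A a) ⁅A a, A b⁆ := by
    refine commute_of_map hF hk ?_ h
    rw [map_commutatorElement, hA, hA, hel_comm hF hab.1 hab.2, lift_prod hF hk hA]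
  have h2 : A a * A a ∈ Subgroup.center Γ := hk (by rw [MonoidHom.mem_ker, map_mul, hA, hel_sq hF])
  have e : ⁅A a * A a, A b⁆ = 1 :=
    commutatorElement_eq_one_iff_commute.2 ((Subgroup.mem_center_iff.1 h2 (A b)).symm)
  rw [commutatorElement_mul_left_eq_conj_mul, hc.eq, mul_inv_cancel_right] at e
  exact e

theorem y_facts :
    Commute (A (q48 33)) (A (q48 36)) ∧ Commute (A (q48 34)) (A (q48 36)) ∧
      Commute (A (q48 34)) (A (q48 42)) ∧ Commute (A (q48 24)) (A (q48 42)) ∧
      Commute (A (q48 36)) (A (q48 42)) := by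
  have hp := pc_facts
  simp only [Bool.and_eq_true] at hp
  obtain ⟨⟨⟨⟨⟨⟨⟨⟨⟨⟨⟨p1, p2⟩, p3⟩, p4⟩, p5⟩, p6⟩, p7⟩, p8⟩, p9⟩, p10⟩, p11⟩, -⟩ := hp
  obtain ⟨o1, o2, o3, o4, -⟩ := odd_facts
  obtain ⟨n1, n2, n3, n4, -⟩ := ne_facts
  have c1 := comm_wit hF hk hA p1 p2 n1
  have c2 := comm_wit hF hk hA p3 p4 n2
  have c3 := comm_wit hF hk hA p5 p6 n3
  have c4 := comm_wit hF hk hA p7 p6 n4
  have c5 := comm_wit hF hk hA p8 p9 n4
  have c6 := comm_wit hF hk hA p10 p11 n4
  rw [o1, List.map_singleton, List.prod_singleton] at c1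
  rw [o2, List.map_singleton, List.prod_singleton] at c2
  rw [o3] at c3
  simp only [List.map_cons, List.map_nil, List.prod_cons, List.prod_nil, mul_one] at c3
  rw [o4, List.map_singleton, List.prod_singleton] at c4 c5 c6
  refine ⟨c1, ?_, c4, c5, c6⟩
  have := c3.mul_right c2.symm.inv_right
  rwa [mul_inv_cancel_right] at this

theorem yv_spec :
    σ (⁅A (q48 33), A (q48 29)⁆ * ⁅A (q48 34), A (q48 26)⁆⁻¹ * ⁅A (q48 41), A (q48 24)⁆) = 1 ∧
      (⁅A (q48 33), A (q48 29)⁆ * ⁅A (q48 34), A (q48 26)⁆⁻¹ * ⁅A (q48 41), A (q48 24)⁆) *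
        (⁅A (q48 33), A (q48 29)⁆ * ⁅A (q48 34), A (q48 26)⁆⁻¹ * ⁅A (q48 41), A (q48 24)⁆) = 1 := by
  obtain ⟨f1, f2, f3, f4, f5⟩ := y_facts hF hk hA
  obtain ⟨-, -, -, -, o5, o6, o7, o8⟩ := odd_facts
  obtain ⟨-, -, -, -, n5, n6, n7⟩ := ne_facts
  have n7' : q48 41 ≠ q48 24 ∧ q48 41 ≠ (q48 24).rev := by decide +kernel
  set P := ⁅A (q48 33), A (q48 29)⁆ with hP
  set Q := ⁅A (q48 34), A (q48 26)⁆ with hQ
  set R := ⁅A (q48 41), A (q48 24)⁆ with hR
  have iP : σ P = σ (A (q48 36)) := by
    rw [hP, map_commutatorElement, hA, hA, hel_comm hF n5.1 n5.2, o5, hA]; simp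
  have iQ : σ Q = σ (A (q48 36) * A (q48 42)) := by
    rw [hQ, map_commutatorElement, hA, hA, hel_comm hF n6.1 n6.2, o6, map_mul, hA, hA]; simp
  have iR : σ R = σ (A (q48 42)) := by
    rw [hR, map_commutatorElement, hA, hA, hel_comm hF n7'.1 n7'.2, o7, hA]; simp
  have hcomm : Commute (hel F (q48 36)) (hel F (q48 42)) := by
    simpa [hA] using f5.map σ
  constructor
  · rw [map_mul, map_mul, map_inv, iP, iQ, iR, map_mul, hA, hA, hcomm.eq]
    group
  have sP : P * P = 1 := comm_sq hF hk hA n5 (by rw [o5]; simpa using f1)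
  have sQ : Q * Q = 1 := comm_sq hF hk hA n6 (by rw [o6]; simpa using f2.mul_right f3)
  have sR : R * R = 1 := by
    have h := comm_sq hF hk hA n7 (by rw [o8]; simpa using f4)
    rw [← commutatorElement_inv (A (q48 41)) (A (q48 24)), ← mul_inv_rev, inv_eq_one] at h
    exact h
  have hPQ : Commute P Q := by
    have h1 : Commute (A (q48 36)) Q :=
      commute_of_map hF hk iQ.symm ((Commute.refl _).mul_right f5)
    exact (commute_of_map hF hk iP.symm h1.symm).symm
  have hPR : Commute P R := by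
    have h1 : Commute (A (q48 36)) R := commute_of_map hF hk iR.symm f5
    exact (commute_of_map hF hk iP.symm h1.symm).symm
  have hQR : Commute Q R := by
    have h1 : Commute (A (q48 36) * A (q48 42)) R :=
      commute_of_map hF hk iR.symm (f5.mul_left (Commute.refl _))
    exact (commute_of_map hF hk iQ.symm h1.symm).symm
  rw [show Q⁻¹ = Q from inv_eq_of_mul_eq_one_right sQ,
    (hPR.symm.mul_right hQR.symm).mul_mul_mul_comm, hPQ.symm.mul_mul_mul_comm, sP, sQ, sR, one_mul, one_mul]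

end Central

section Kernel

variable {Γ : Type u} [Group Γ] [Finite Γ] {σ : Γ →* ↥(chevF4.group F)} (hσ : Cfsg.IsStemExtension σ)
include hσ

theorem yv_congr {f f' : ℕ → Γ} (h : ∀ k, σ (f k) = σ (f' k)) : yv f = yv f' := by
  rw [yv, yv, commutator_congr hσ.2.1 (h 9) (h 5), commutator_congr hσ.2.1 (h 10) (h 2),
    commutator_congr hσ.2.1 (h 17) (h 0)]

theorem yv_facts {f : ℕ → Γ} (hf : ∀ k, σ (f k) = gel F k) : σ (yv f) = 1 ∧ yv f * yv f = 1 := by
  choose A hA using fun r : Rt chevF4 => hσ.1 (hel F r)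
  obtain ⟨h1, h2⟩ := yv_spec hF hσ.2.1 hA
  have e : yv f = yv fun k => A (rt k) := yv_congr hF hσ fun k => (hf k).trans (hA _).symm
  rw [e]
  exact ⟨h1, h2⟩

/-- No stem extension with kernel of order two has trivial product of the three commutators. -/
theorem false_two (hcard : Nat.card σ.ker = 2) {f : ℕ → Γ} (hf : ∀ k, σ (f k) = gel F k)
    (hy : yv f = 1) : False := by
  have := finite_group hF
  refine false_of_cert Data.pres (show Nat.Prime 2 from Nat.prime_two) PcCollect.maskVec (gel F)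
    (eqs := Data.eqs) (extra := [Data.extra]) (combos := Data.combos) (by decide +kernel) (rel hF)
    (strict hF) (conj_ok hF) ?_ σ hσ hcard ?_
  · show ¬ 2 ^ 25 ∣ Nat.card _
    rw [card_group_eq hF]
    norm_num
  intro G₀ Z tv hG₀ hZ hσZ hinj hrel x hx
  rw [List.mem_singleton] at hx
  subst hx
  have hZc : ∀ a (g : Γ), g * Z a = Z a * g := fun a g => Subgroup.mem_center_iff.1 (hσ.2.1 (hσZ a)) g
  have hy0 : yv G₀ = 1 := by rw [yv_congr hF hσ fun k => (hG₀ k).trans (hf k).symm, hy]
  have comm_tail : ∀ i < 24, ∀ j < i, ∀ R : List ℕ, Data.pres.word i j = i :: R →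
      ⁅G₀ i, G₀ j⁆ = Z (tv (PcCollect.pidx i j)) * PcCollect.Data.el G₀ R := by
    intro i hi j hj R hW
    have h := hrel i hi j hj.le
    rw [PcCollect.Data.lhs, PcCollect.Data.rhs, if_neg (by omega), if_neg (by omega), hW,
      PcCollect.Data.el_cons, PcCollect.Data.el_cons, PcCollect.Data.el_cons, PcCollect.Data.el_cons] at h
    rw [show PcCollect.Data.el G₀ [] = 1 from rfl, mul_one] at h
    rw [commutator_congr hσ.2.1 (show σ (G₀ i) = σ (G₀ i)⁻¹ by rw [map_inv, hG₀, gel, hel_inv hF])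
      (show σ (G₀ j) = σ (G₀ j)⁻¹ by rw [map_inv, hG₀, gel, hel_inv hF]), commutatorElement_def, inv_inv,
      inv_inv, mul_assoc, h, ← hZc _ (G₀ j * _), ← mul_assoc ((G₀ i)⁻¹ * (G₀ j)⁻¹),
      show (G₀ i)⁻¹ * (G₀ j)⁻¹ * (G₀ j * (G₀ i * PcCollect.Data.el G₀ R)) = PcCollect.Data.el G₀ R by group,
      hZc]
  have e1 := comm_tail 9 (by norm_num) 5 (by norm_num) [12] (by decide)
  have e2 := comm_tail 10 (by norm_num) 2 (by norm_num) [12, 18] (by decide)
  have e3 := comm_tail 17 (by norm_num) 0 (by norm_num) [18] (by decide)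
  simp only [PcCollect.Data.el, List.map_cons, List.map_nil, List.prod_cons, List.prod_nil, mul_one] at e1 e2 e3
  have hA : ∀ r : Rt chevF4, ∃ a : Γ, σ a = hel F r := fun r => hσ.1 _
  choose A hA using hA
  have h36 : σ (G₀ 12) = hel F (q48 36) := (hG₀ 12).trans rfl
  have h42 : σ (G₀ 18) = hel F (q48 42) := (hG₀ 18).trans rfl
  have hc : Commute (G₀ 12) (G₀ 18) := by
    rw [← commutatorElement_eq_one_iff_commute,
      commutator_congr hσ.2.1 (h36.trans (hA _).symm) (h42.trans (hA _).symm)]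
    exact commutatorElement_eq_one_iff_commute.2 (y_facts hF hσ.2.1 hA).2.2.2.2
  set t1 := tv (PcCollect.pidx 9 5)
  set t2 := tv (PcCollect.pidx 10 2)
  set t3 := tv (PcCollect.pidx 17 0)
  set a := G₀ 12
  set b := G₀ 18
  have hneg : (Z t2)⁻¹ = Z (-t2) := inv_eq_of_mul_eq_one_right (by
    rw [← hZ, add_neg_cancel, PcCollect.Data.Z_zero Data.pres Z hZ])
  have key : Z (t1 + -t2 + t3) = 1 := by
    rw [yv, e1, e2, e3, mul_inv_rev, mul_inv_rev, hneg] at hy0
    rw [← hy0, hZ, hZ]
    have ha : a * (b⁻¹ * a⁻¹) = b⁻¹ := by rw [← mul_assoc, hc.inv_right.eq, mul_inv_cancel_right]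
    symm
    calc Z t1 * a * (b⁻¹ * a⁻¹ * Z (-t2)) * (Z t3 * b)
          = Z t1 * (a * (b⁻¹ * a⁻¹)) * Z (-t2) * (Z t3 * b) := by group
      _ = Z t1 * (b⁻¹ * Z (-t2)) * (Z t3 * b) := by rw [ha, mul_assoc (Z t1)]
      _ = Z t1 * Z (-t2) * (b⁻¹ * Z t3) * b := by rw [hZc (-t2)]; simp only [mul_assoc]
      _ = Z t1 * Z (-t2) * Z t3 := by rw [hZc t3, ← mul_assoc, inv_mul_cancel_right]
  have h0 : t1 + -t2 + t3 = 0 := hinj (key.trans (PcCollect.Data.Z_zero Data.pres Z hZ).symm)
  rw [show Data.extra = PcCollect.maskVec.ofList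
      [PcCollect.pidx 9 5, PcCollect.pidx 10 2, PcCollect.pidx 17 0] by decide +kernel]
  refine (PcCollect.Vec.dot_ofList PcCollect.maskVec tv _).trans ?_
  rw [show -t2 = t2 from ZMod.neg_eq_self_mod_two t2] at h0
  show t1 + (t2 + (t3 + 0)) = 0
  rw [add_zero, ← add_assoc]
  exact h0

omit hσ in
/-- The image of a root under a word of fundamental reflections. -/
noncomputable def wAct (L : List (Fin 4)) (r : Rt chevF4) : Rt chevF4 :=
  L.foldr (fun i x => C.w i x) r

omit hσ hF in
theorem posWords_ok : ((List.finRange chevF4.nroots).all fun a => (List.finRange chevF4.nroots).all fun b =>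
    decide (a = b) || decide (a = b.rev) || Data.posWords.any fun L =>
      (a :: b :: oddRoots a b).all fun r => decide (24 ≤ (wAct L r).val)) = true := by
  decide +kernel

/-- No stem extension has kernel of odd prime order. -/
theorem false_odd {p : ℕ} (hp : p.Prime) (h2 : p ≠ 2) (hcard : Nat.card σ.ker = p) : False := by
  have := finite_group hF
  have hodd : Odd p := hp.odd_of_ne_two h2
  have hkp : ∀ k ∈ σ.ker, k ^ p = 1 := fun k hk => by
    have h := pow_card_eq_one' (G := σ.ker) (x := (⟨k, hk⟩ : σ.ker))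
    rw [hcard] at h
    exact congrArg Subtype.val h
  have hk2 : ∀ k ∈ σ.ker, k * k = 1 → k = 1 := by
    intro k hk h
    obtain ⟨m, hm⟩ := hodd
    have e := hkp k hk
    rwa [hm, pow_succ, pow_mul, pow_two, h, one_pow, one_mul] at e
  have hY : ∀ r, ∃ y, σ y = hel F r ∧ y * y = 1 := by
    intro r
    obtain ⟨a, ha⟩ := hσ.1 (hel F r)
    have hk : a * a ∈ σ.ker := by rw [MonoidHom.mem_ker, map_mul, ha, hel_sq hF]
    obtain ⟨m, hm⟩ := hodd
    refine ⟨a * (a * a) ^ m, by rw [map_mul, map_pow, MonoidHom.mem_ker.1 hk, one_pow, mul_one, ha], ?_⟩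
    have e := hkp _ hk
    rw [hm] at e
    have c : Commute a ((a * a) ^ m) := ((Commute.refl a).mul_right (Commute.refl a)).pow_right m
    calc a * (a * a) ^ m * (a * (a * a) ^ m) = (a * a) ^ (2 * m + 1) := by
          rw [c.symm.mul_mul_mul_comm, ← pow_add, ← pow_succ']
          congr 1
          omega
      _ = 1 := e
  choose Y hY1 hY2 using hY
  have huniq : ∀ r x, σ x = hel F r → x * x = 1 → x = Y r := by
    intro r x h1 hx
    have hk : (Y r)⁻¹ * x ∈ σ.ker := by rw [MonoidHom.mem_ker, map_mul, map_inv, hY1, h1, inv_mul_cancel]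
    have hc := Subgroup.mem_center_iff.1 (hσ.2.1 hk)
    have h := hk2 _ hk (by
      calc (Y r)⁻¹ * x * ((Y r)⁻¹ * x) = (Y r)⁻¹ * (((Y r)⁻¹ * x) * x) := by
            rw [← mul_assoc, ← hc (Y r)⁻¹, mul_assoc]
        _ = (Y r * Y r)⁻¹ * (x * x) := by group
        _ = 1 := by rw [hY2, hx, inv_one, one_mul])
    rw [inv_mul_eq_one] at h
    exact h.symm
  -- conjugation by lifts of the fundamental monomial elements
  choose N hN using fun i : Fin chevF4.rank => hσ.1 (npel F i)
  have hconjY : ∀ i r, N i * Y r * (N i)⁻¹ = Y (C.w i r) := fun i r =>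
    huniq _ _ (by rw [map_mul, map_mul, map_inv, hY1, hN, npel_conj hF])
      (by rw [conj_mul, hY2, mul_one, mul_inv_cancel])
  have hconjW : ∀ (L : List (Fin chevF4.rank)) r, (L.map N).prod * Y r * (L.map N).prod⁻¹ = Y (wAct L r) := by
    intro L r
    induction L with
    | nil => simp [wAct]
    | cons i L ih =>
      rw [List.map_cons, List.prod_cons, show N i * (L.map N).prod * Y r * (N i * (L.map N).prod)⁻¹ =
        N i * ((L.map N).prod * Y r * (L.map N).prod⁻¹) * (N i)⁻¹ by group, ih, hconjY]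
      rfl
  -- the positive lifts lie in a complement of the kernel
  set Q := (unip F).comap σ with hQ
  have hkQ : σ.ker ≤ Q := fun k hk => by
    rw [hQ, Subgroup.mem_comap, MonoidHom.mem_ker.1 hk]; exact one_mem _
  set K := σ.ker.subgroupOf Q
  have hKn : K.Normal := Subgroup.normal_subgroupOf
  have hKc : Nat.card K = p := by
    rw [Nat.card_congr (Subgroup.subgroupOfEquivOfLe hkQ).toEquiv, hcard]
  have hKi : K.index = 2 ^ 24 := by
    have h1 : Nat.card K * K.index = Nat.card Q := K.card_mul_index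
    have h2 : Nat.card Q = Nat.card σ.ker * 2 ^ 24 := by
      have hi : Q.index = (unip F).index := Subgroup.index_comap_of_surjective _ hσ.1
      have hΓ : Nat.card Γ = Nat.card σ.ker * Nat.card ↥(chevF4.group F) := by
        rw [← σ.ker.card_mul_index, Subgroup.index_ker, MonoidHom.range_eq_top.2 hσ.1, Subgroup.card_top]
      have h3 := Q.card_mul_index
      rw [hΓ, hi, unip_index hF, card_group_eq hF] at h3
      exact Nat.eq_of_mul_eq_mul_right (show 0 < 3 * 63 * 255 * 4095 by norm_num)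
        (h3.trans (mul_assoc _ _ _).symm)
    rw [h2, hKc, hcard] at h1
    exact Nat.eq_of_mul_eq_mul_left hp.pos h1
  obtain ⟨S0, hS⟩ := Subgroup.exists_right_complement'_of_coprime (N := K) (by
    rw [hKc, hKi]
    exact (Nat.Coprime.pow_right _ ((Nat.coprime_primes hp Nat.prime_two).2 h2)))
  set S := S0.map Q.subtype
  have hSK : ∀ x ∈ S, σ x = 1 → x = 1 := by
    rintro _ ⟨x, hx, rfl⟩ h
    have hxK : x ∈ K := Subgroup.mem_subgroupOf.2 h
    have := Subgroup.disjoint_def.1 hS.disjoint hxK hx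
    rw [this]
    rfl
  have hpos : ∀ r : Rt chevF4, 24 ≤ r.val → Y r ∈ S := by
    intro r hr
    have hyQ : Y r ∈ Q := by
      rw [hQ, Subgroup.mem_comap, hY1, mem_unip hF]
      refine C.X_mem_US F (S := C.Pos) ?_ 1
      show chevF4.nroots ≤ 2 * r.val
      have : chevF4.nroots = 48 := rfl
      omega
    obtain ⟨⟨⟨k, hk⟩, ⟨s, hs⟩⟩, e⟩ := hS.2 ⟨Y r, hyQ⟩
    have e' : (k : Γ) * (s : Γ) = Y r := congrArg Subtype.val e
    have hkk : (k : Γ) ∈ σ.ker := Subgroup.mem_subgroupOf.1 hk
    have hcomm : Commute (k : Γ) (s : Γ) := (Subgroup.mem_center_iff.1 (hσ.2.1 hkk) _).symm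
    have hsq : ((k : Γ) * k) * ((s : Γ) * s) = 1 := by
      rw [← hcomm.symm.mul_mul_mul_comm, e', hY2]
    have hs' : (s : Γ) ∈ S := ⟨s, hs, rfl⟩
    have hk1 : (k : Γ) * k = 1 := by
      rw [eq_inv_of_mul_eq_one_left hsq]
      refine hSK _ (inv_mem (mul_mem hs' hs')) ?_
      rw [← eq_inv_of_mul_eq_one_left hsq]
      rw [map_mul, MonoidHom.mem_ker.1 hkk, one_mul]
    rw [← e', hk2 _ hkk hk1, one_mul]
    exact hs'
  have hrel : ∀ a b : Rt chevF4, a ≠ b → a ≠ b.rev → ⁅Y a, Y b⁆ = ((oddRoots a b).map Y).prod := by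
    intro a b hab hab'
    set x := ⁅Y a, Y b⁆ * ((oddRoots a b).map Y).prod⁻¹ with hx
    have hxk : x ∈ σ.ker := by
      rw [MonoidHom.mem_ker, hx, map_mul, map_inv, map_commutatorElement, map_list_prod, List.map_map, hY1,
        hY1, hel_comm hF hab hab', show σ ∘ Y = hel F from funext hY1, mul_inv_cancel]
    have h := posWords_ok
    simp only [List.all_eq_true, Bool.or_eq_true, decide_eq_true_eq, List.any_eq_true] at h
    obtain ⟨L, -, hL⟩ := (h a (List.mem_finRange a) b (List.mem_finRange b)).resolve_left (by simp [hab, hab'])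
    obtain ⟨n, hn⟩ : ∃ n : Γ, ∀ r, n * Y r * n⁻¹ = Y (wAct L r) := ⟨_, fun r => hconjW L r⟩
    have hfix : MulAut.conj n x = x := by
      rw [MulAut.conj_apply, Subgroup.mem_center_iff.1 (hσ.2.1 hxk) n, mul_inv_cancel_right]
    have hxS : MulAut.conj n x ∈ S := by
      rw [hx, map_mul, map_inv, map_commutatorElement, map_list_prod, List.map_map]
      have hm : ∀ r ∈ a :: b :: oddRoots a b, MulAut.conj n (Y r) ∈ S := fun r hr => by
        rw [MulAut.conj_apply, hn]; exact hpos _ (hL r hr)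
      refine mul_mem ?_ (inv_mem (list_prod_mem fun w hw => ?_))
      · rw [commutatorElement_def]
        have h1 := hm a (by simp); have h2 := hm b (by simp)
        exact mul_mem (mul_mem (mul_mem h1 h2) (inv_mem h1)) (inv_mem h2)
      · obtain ⟨r, hr, rfl⟩ := List.mem_map.1 hw
        exact hm r (List.mem_cons_of_mem _ (List.mem_cons_of_mem _ hr))
    rw [hfix] at hxS
    exact mul_inv_eq_one.1 (hSK x hxS hxk)
  -- the lift of the presented group
  classical
  set π := (chevF4.group F).subtype.comp σ with hπ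
  let y : Rt chevF4 → F → Γ := fun r t => if t = 0 then 1 else Y r
  have hy : ∀ r t, π (y r t) = C.X F r t := by
    intro r t
    rcases eq01 hF t with rfl | rfl
    · simp [y, C.X_zero]
    · simp [y, hπ, hY1, hel]
  have hy1 : ∀ r, y r 1 = Y r := fun r => if_neg one_ne_zero
  have hy0 : ∀ r, y r 0 = 1 := fun r => if_pos rfl
  have cert := CurtisTits.CertF4.cert.{u}
  obtain ⟨τ, hτ⟩ := ChevLift.exists_lift_of_y cert π y (fun r _ => hy r)
    (fun r _ t u => by
      rcases eq01 hF t with rfl | rfl <;> rcases eq01 hF u with rfl | rfl <;>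
        simp [hy0, hy1, one_add_one hF, hY2])
    (fun i j r s _ _ h0 h1 t u => by
      have hterm : ∀ e ∈ terms r s, 1 ≤ e.2.2.1 ∧ 1 ≤ e.2.2.2 := fun e he =>
        ⟨(CurtisTits.terms_weight commOK h0 h1 he).1, (CurtisTits.terms_weight commOK h0 h1 he).2.1⟩
      rcases eq01 hF t with rfl | rfl
      · rw [hy0, inv_one, mul_one, mul_one, inv_mul_cancel, evalT]
        refine (List.prod_eq_one fun w hw => ?_).symm
        obtain ⟨e, he, rfl⟩ := List.mem_map.1 hw
        rw [neg_zero, zero_pow (by have := (hterm e he).1; omega), mul_zero, zero_mul, hy0]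
      rcases eq01 hF u with rfl | rfl
      · rw [hy0, inv_one, one_mul, mul_one, inv_mul_cancel, evalT]
        refine (List.prod_eq_one fun w hw => ?_).symm
        obtain ⟨e, he, rfl⟩ := List.mem_map.1 hw
        rw [zero_pow (by have := (hterm e he).2; omega), mul_zero, hy0]
      rw [hy1, hy1, show (Y s)⁻¹ = Y s from inv_eq_of_mul_eq_one_right (hY2 s),
        show (Y r)⁻¹ = Y r from inv_eq_of_mul_eq_one_right (hY2 r)]
      have e := hrel s r h0 h1
      rw [commutatorElement_def, show (Y s)⁻¹ = Y s from inv_eq_of_mul_eq_one_right (hY2 s),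
        show (Y r)⁻¹ = Y r from inv_eq_of_mul_eq_one_right (hY2 r)] at e
      rw [e, oddRoots, evalT]
      induction terms r s with
      | nil => simp
      | cons x l ih =>
        rw [List.filter_cons]
        simp only [List.map_cons, List.prod_cons]
        rw [← ih, neg_one_eq hF, one_pow, one_pow, mul_one, mul_one, cast_int hF]
        by_cases hx : x.2.1 % 2 = 0
        · rw [if_pos hx, hy0, one_mul, if_neg (by simp [hx])]
        · rw [if_neg hx, hy1, if_pos (by simp [hx])]
          simp only [List.map_cons, List.prod_cons])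
  have hs := CurtisTits.suppOne_F4
  have hφ : σ.comp τ = coverMap cert hs := PresentedGroup.ext fun ⟨r, t⟩ => by
    rw [← scGen_of]
    exact Subtype.ext ((hτ r t).trans (coverMap_gen cert hs r t).symm)
  have hsurj := ChevLift.lift_surjective _ (CurtisTits.coverMap_surj cert hs) σ hσ τ hφ
  have hz : Subgroup.center (chevF4.SteinbergGroup F) = ⊥ := Cfsg.Agent.S1078.result chevF4 (by simp)
  have hbot : σ.ker = ⊥ := by
    rw [Subgroup.eq_bot_iff_forall]
    intro z hz'
    obtain ⟨x, rfl⟩ := hsurj z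
    have hx : coverMap cert hs x = 1 := (DFunLike.congr_fun hφ x).symm.trans hz'
    have := (ChevLift.coverMap_eq_one_iff cert hs x).1 hx
    rw [hz, Subgroup.mem_bot] at this
    rw [(CurtisTits.coverEquiv cert hs).map_eq_one_iff.1 this, map_one]
  rw [hbot, Subgroup.card_bot] at hcard
  exact hp.ne_one hcard.symm

end Kernel

/-- The kernel of a stem extension is generated by the product of the three commutators. -/
theorem ker_bound {Γ : Type u} [Group Γ] [Finite Γ] {σ : Γ →* ↥(chevF4.group F)}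
    (hσ : Cfsg.IsStemExtension σ) :
    ∃ π : Multiplicative (ZMod 2) →* σ.ker, Function.Surjective π := by
  have := finite_group hF
  choose f hf using fun k => hσ.1 (gel F k)
  obtain ⟨hy1, hy2⟩ := yv_facts hF hσ hf
  set Y : σ.ker := ⟨yv f, hy1⟩
  have hY2 : Y ^ 2 = 1 := by rw [pow_two]; exact Subtype.ext hy2
  letI : CommGroup σ.ker :=
    { (inferInstance : Group σ.ker) with
      mul_comm := fun a b => Subtype.ext (Subgroup.mem_center_iff.1 (hσ.2.1 b.2) a) }
  have htop : Subgroup.zpowers Y = ⊤ := by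
    by_contra hne
    obtain ⟨M, hM, hle⟩ := (eq_top_or_exists_le_coatom (Subgroup.zpowers Y)).resolve_left hne
    have : M.Normal := ⟨fun c hc g => by rwa [mul_comm g c, mul_inv_cancel_right]⟩
    have : IsSimpleGroup (σ.ker ⧸ M) :=
      { exists_pair_ne := by
          obtain ⟨a, ha⟩ : ∃ a, a ∉ M := by
            by_contra hh
            exact hM.1 (eq_top_iff.2 fun x _ => not_not.1 fun hx => hh ⟨x, hx⟩)
          exact ⟨QuotientGroup.mk a, 1, fun h => ha ((QuotientGroup.eq_one_iff a).1 h)⟩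
        eq_bot_or_eq_top_of_normal := fun H _ => by
          have hle' : M ≤ H.comap (QuotientGroup.mk' M) := fun x hx => by
            show QuotientGroup.mk' M x ∈ H
            rw [QuotientGroup.mk'_apply, (QuotientGroup.eq_one_iff x).2 hx]
            exact one_mem H
          have hsurj := QuotientGroup.mk'_surjective M
          rcases eq_or_lt_of_le hle' with h | h
          · refine Or.inl ?_
            rw [← Subgroup.map_comap_eq_self_of_surjective hsurj H, ← h, QuotientGroup.map_mk'_self]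
          · refine Or.inr ?_
            rw [← Subgroup.map_comap_eq_self_of_surjective hsurj H, hM.2 _ h,
              Subgroup.map_top_of_surjective _ hsurj] }
    have hp : M.index.Prime := by
      rw [Subgroup.index_eq_card]; exact IsSimpleGroup.prime_card
    let K0 : Subgroup Γ := M.map σ.ker.subtype
    have hK0 : K0 ≤ σ.ker := by rintro _ ⟨c, -, rfl⟩; exact c.2
    have : K0.Normal := ⟨fun c hc g => by
      rwa [Subgroup.mem_center_iff.1 (hσ.2.1 (hK0 hc)) g, mul_inv_cancel_right]⟩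
    let τ : Γ ⧸ K0 →* ↥(chevF4.group F) := QuotientGroup.lift K0 σ hK0
    have hker : τ.ker = σ.ker.map (QuotientGroup.mk' K0) := QuotientGroup.ker_lift _ _ _
    have hcard : Nat.card τ.ker = M.index := by
      have hrange : σ.ker.map (QuotientGroup.mk' K0) =
          ((QuotientGroup.mk' K0).comp σ.ker.subtype).range := by
        rw [MonoidHom.range_eq_map, ← Subgroup.map_map, ← MonoidHom.range_eq_map, Subgroup.range_subtype]
      rw [hker, hrange, ← Subgroup.index_ker]
      congr 1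
      ext c
      rw [MonoidHom.mem_ker, MonoidHom.comp_apply, ← MonoidHom.mem_ker, QuotientGroup.ker_mk']
      exact ⟨fun ⟨d, hd, hdc⟩ => (Subtype.ext hdc : d = c) ▸ hd, fun hc => ⟨c, hc, rfl⟩⟩
    have hτ : Cfsg.IsStemExtension τ := by
      refine ⟨fun g => ?_, ?_, ?_⟩
      · obtain ⟨x, rfl⟩ := hσ.1 g
        exact ⟨x, rfl⟩
      · rw [hker]
        rintro _ ⟨c, hc, rfl⟩
        rw [Subgroup.mem_center_iff]
        intro g
        obtain ⟨g, rfl⟩ := QuotientGroup.mk_surjective g
        exact congrArg (QuotientGroup.mk' K0) (Subgroup.mem_center_iff.1 (hσ.2.1 hc) g)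
      · rw [hker]
        refine (Subgroup.map_mono hσ.2.2).trans ?_
        rw [commutator_def, Subgroup.map_commutator, commutator_def]
        exact Subgroup.commutator_mono le_top le_top
    by_cases hq : M.index = 2
    · refine false_two hF hτ (hcard.trans hq) (f := fun k => QuotientGroup.mk' K0 (f k)) hf ?_
      have e : yv (fun k => QuotientGroup.mk' K0 (f k)) = QuotientGroup.mk' K0 (yv f) := by
        simp only [yv, map_mul, map_inv, map_commutatorElement]
      rw [e]
      exact (QuotientGroup.eq_one_iff _).2 ⟨Y, hle (Subgroup.mem_zpowers Y), rfl⟩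
    · exact false_odd hF hτ hp hq hcard
  refine ⟨⟨⟨fun a => Y ^ (Multiplicative.toAdd a).val, by simp⟩, fun a b => ?_⟩, fun z => ?_⟩
  · show Y ^ (Multiplicative.toAdd a + Multiplicative.toAdd b).val = _
    rw [← pow_add, ZMod.val_add, ← pow_eq_pow_mod _ hY2]
  · obtain ⟨k, hk⟩ := Subgroup.mem_zpowers_iff.1 (htop.ge (Subgroup.mem_top z))
    refine ⟨Multiplicative.ofAdd ((k : ℤ) : ZMod 2), ?_⟩
    show Y ^ ((k : ℤ) : ZMod 2).val = z
    rw [← hk, ← zpow_natCast, ZMod.val_intCast, zpow_eq_zpow_emod' k hY2]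

end Cfsg.Agent.Lib.F4Mult45
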