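import Cfsg.Prelude.Def_KGroupFacts
import Mathlib

/-!
Corestriction of a double cover: a central extension by an involution of a subgroup of odd index, stable
under the conjugations of the group, gives a stem extension of the whole group with kernel of order two.
The extension is realised by monomial permutations of the cosets, modulo the parity of the kernel entries.
-/

set_option autoImplicit false

namespace Cfsg.Agent.Lib.F4Mult45

universe u

variable {G : Type u} [Group G] {T : Type u} [Group T] (π : T →* G) (z : T)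

/-- The elements whose image is carried into the image by conjugation with `g`. -/
def Dom (g : G) : Subgroup T := π.range.comap ((MulAut.conj g).toMonoidHom.comp π)

theorem mem_Dom {g : G} {x : T} : x ∈ Dom π g ↔ g * π x * g⁻¹ ∈ π.range := Iff.rfl

/-- Conjugation by `g` lifts to the extension where it makes sense, fixing `z`. -/
def Stable (g : G) : Prop :=
  ∃ θ : T → T, (∀ x ∈ Dom π g, π (θ x) = g * π x * g⁻¹) ∧
    (∀ x ∈ Dom π g, ∀ y ∈ Dom π g, θ (x * y) = θ x * θ y) ∧ θ z = z

/-- An element of the image lifts as an inner automorphism. -/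
theorem stable_range (hc : z ∈ Subgroup.center T) {g : G} (hg : g ∈ π.range) : Stable π z g := by
  obtain ⟨t, rfl⟩ := hg
  exact ⟨fun x => t * x * t⁻¹, fun x _ => by simp, fun x _ y _ => by group,
    by simp only [Subgroup.mem_center_iff.1 hc t, mul_inv_cancel_right]⟩

/-- Lifts compose with inner automorphisms on both sides. -/
theorem stable_mul_mul (hc : z ∈ Subgroup.center T) {g u v : G} (hu : u ∈ π.range) (hv : v ∈ π.range)
    (h : Stable π z g) : Stable π z (u * g * v) := by
  obtain ⟨a, rfl⟩ := hu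
  obtain ⟨b, rfl⟩ := hv
  obtain ⟨θ, h1, h2, h3⟩ := h
  have hz : ∀ t : T, t * z * t⁻¹ = z := fun t => by
    rw [Subgroup.mem_center_iff.1 hc t, mul_inv_cancel_right]
  have hdom : ∀ x ∈ Dom π (π a * g * π b), b * x * b⁻¹ ∈ Dom π g := by
    intro x hx
    rw [mem_Dom] at hx ⊢
    have := mul_mem (mul_mem (inv_mem (MonoidHom.mem_range.2 ⟨a, rfl⟩)) hx) (MonoidHom.mem_range.2 ⟨a, rfl⟩)
    simp only [map_mul, map_inv]
    convert this using 1
    group
  refine ⟨fun x => a * θ (b * x * b⁻¹) * a⁻¹, fun x hx => ?_, fun x hx y hy => ?_, ?_⟩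
  · simp only [map_mul, map_inv, h1 _ (hdom x hx)]
    group
  · simp only [show b * (x * y) * b⁻¹ = (b * x * b⁻¹) * (b * y * b⁻¹) by group,
      h2 _ (hdom x hx) _ (hdom y hy)]
    group
  · simp only [hz b, h3, hz a]

section Construction

/-- The cosets of the image. -/
abbrev Cos : Type u := G ⧸ π.range

theorem exists_sec (x : Cos π) : ∃ s : T,
    π s • (Quotient.out (⟦x⟧ : MulAction.orbitRel.Quotient π.range (Cos π))) = x := by
  have h : (⟦Quotient.out (⟦x⟧ : MulAction.orbitRel.Quotient π.range (Cos π))⟧ :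
      MulAction.orbitRel.Quotient π.range (Cos π)) = ⟦x⟧ := Quotient.out_eq _
  have h2 : x ∈ MulAction.orbit π.range
      (Quotient.out (⟦x⟧ : MulAction.orbitRel.Quotient π.range (Cos π))) :=
    MulAction.orbitRel_apply.1 (Quotient.exact h.symm)
  obtain ⟨⟨p, s, rfl⟩, hp⟩ := h2
  exact ⟨s, hp⟩

/-- The chosen representative of the orbit. -/
noncomputable def base (x : Cos π) : Cos π :=
  Quotient.out (⟦x⟧ : MulAction.orbitRel.Quotient π.range (Cos π))

/-- An element moving the representative to a coset. -/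
noncomputable def sec (x : Cos π) : T := (exists_sec π x).choose

theorem sec_spec (x : Cos π) : π (sec π x) • base π x = x := (exists_sec π x).choose_spec

theorem base_smul (p : T) (x : Cos π) : base π (π p • x) = base π x :=
  congrArg Quotient.out (Quotient.sound (MulAction.orbitRel_apply.2
    ⟨⟨π p, p, rfl⟩, rfl⟩) : (⟦π p • x⟧ : MulAction.orbitRel.Quotient π.range (Cos π)) = ⟦x⟧)

/-- The transversal. -/
noncomputable def tr (x : Cos π) : G := π (sec π x) * (base π x).out

theorem tr_mk (x : Cos π) : ((tr π x : G) : Cos π) = x := by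
  conv_rhs => rw [← sec_spec π x, ← QuotientGroup.out_eq' (base π x)]
  rfl

theorem tr_mem (g : G) (x : Cos π) : (tr π (g • x))⁻¹ * g * tr π x ∈ π.range := by
  rw [mul_assoc, ← QuotientGroup.eq, tr_mk]
  conv_lhs => rw [← tr_mk π x]
  rfl

theorem sec_mem (p : T) (x : Cos π) :
    (sec π (π p • x))⁻¹ * p * sec π x ∈ Dom π ((base π x).out)⁻¹ := by
  have h := tr_mem π (π p) x
  rw [tr, tr, base_smul] at h
  rw [mem_Dom, inv_inv]
  simp only [map_mul, map_inv]
  convert h using 1
  group

/-- The monomial permutations over the elements of the group. -/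
def Mono : Subgroup (G × Equiv.Perm (Cos π × T)) where
  carrier := {a | ∀ x : Cos π, ∃ f : T, π f = (tr π (a.1 • x))⁻¹ * a.1 * tr π x ∧
    ∀ q : T, a.2 (x, q) = (a.1 • x, f * q)}
  one_mem' := fun x => ⟨1, by simp, fun q => by simp⟩
  mul_mem' := fun {a b} ha hb x => by
    obtain ⟨f, hf, hf'⟩ := hb x
    obtain ⟨f', hg, hg'⟩ := ha (b.1 • x)
    refine ⟨f' * f, ?_, fun q => ?_⟩
    · rw [map_mul, hf, hg, Prod.fst_mul, mul_smul]
      group
    · rw [Prod.snd_mul, Equiv.Perm.mul_apply, hf', hg', Prod.fst_mul, mul_smul, mul_assoc]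
  inv_mem' := fun {a} ha x => by
    obtain ⟨f, hf, hf'⟩ := ha (a.1⁻¹ • x)
    rw [smul_inv_smul] at hf hf'
    refine ⟨f⁻¹, ?_, fun q => ?_⟩
    · rw [map_inv, hf, Prod.fst_inv]
      group
    · rw [Prod.fst_inv, Prod.snd_inv, Equiv.Perm.inv_def, Equiv.symm_apply_eq, hf', mul_inv_cancel_left]

/-- The entry of a monomial permutation. -/
def ent (a : Mono π) (x : Cos π) : T := ((a : G × Equiv.Perm (Cos π × T)).2 (x, 1)).2

/-- The projection of a monomial permutation. -/
def proj : Mono π →* G := (MonoidHom.fst G _).comp (Mono π).subtype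

theorem ent_spec (a : Mono π) (x : Cos π) :
    π (ent π a x) = (tr π (proj π a • x))⁻¹ * proj π a * tr π x ∧
      ∀ q : T, (a : G × Equiv.Perm (Cos π × T)).2 (x, q) = (proj π a • x, ent π a x * q) := by
  obtain ⟨f, hf, hf'⟩ := a.2 x
  have e : ent π a x = f := by rw [ent, hf', mul_one]
  rw [e]
  exact ⟨hf, hf'⟩

theorem ent_mul (a b : Mono π) (x : Cos π) :
    ent π (a * b) x = ent π a (proj π b • x) * ent π b x := by
  rw [ent, Subgroup.coe_mul, Prod.snd_mul, Equiv.Perm.mul_apply, (ent_spec π b x).2, (ent_spec π a _).2]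
  rw [mul_one]

theorem ext_ent {a b : Mono π} (h1 : proj π a = proj π b) (h2 : ∀ x, ent π a x = ent π b x) : a = b := by
  refine Subtype.ext (Prod.ext h1 (Equiv.ext fun ⟨x, q⟩ => ?_))
  rw [(ent_spec π a x).2, (ent_spec π b x).2, h1, h2]

/-- The monomial permutation with given entries. -/
def mkMono (g : G) (f : Cos π → T) (hf : ∀ x, π (f x) = (tr π (g • x))⁻¹ * g * tr π x) : Mono π :=
  ⟨(g,
    { toFun := fun v => (g • v.1, f v.1 * v.2)
      invFun := fun v => (g⁻¹ • v.1, (f (g⁻¹ • v.1))⁻¹ * v.2)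
      left_inv := fun v => by simp
      right_inv := fun v => by simp }),
    fun x => ⟨f x, hf x, fun _ => rfl⟩⟩

theorem proj_surjective : Function.Surjective (proj π) := by
  intro g
  choose f hf using fun x => tr_mem π g x
  exact ⟨mkMono π g f hf, rfl⟩

variable (hker : ∀ t, π t = 1 ↔ t = 1 ∨ t = z) (hz1 : z ≠ 1) (hc : z ∈ Subgroup.center T)
include hker hz1 hc

omit hc in
theorem z_mul_self : z * z = 1 := by
  refine ((hker _).1 (by rw [map_mul, (hker z).2 (Or.inr rfl), one_mul])).resolve_right fun h => ?_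
  exact hz1 (mul_eq_left.1 h)

omit hz1 hc in
theorem ent_ker {a : Mono π} (ha : proj π a = 1) (x : Cos π) : ent π a x = 1 ∨ ent π a x = z := by
  refine (hker _).1 ?_
  rw [(ent_spec π a x).1, ha, one_smul, mul_one, inv_mul_cancel]

open Classical in
omit hc in
theorem ind_mul {f f' : T} (hf : f = 1 ∨ f = z) (hf' : f' = 1 ∨ f' = z) :
    (if f * f' = z then (1 : ZMod 2) else 0) =
      (if f = z then (1 : ZMod 2) else 0) + (if f' = z then 1 else 0) := by
  have h := z_mul_self π z hker hz1
  rcases hf with rfl | rfl <;> rcases hf' with rfl | rfl <;>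
    simp [h, Ne.symm hz1, show (1 : ZMod 2) + 1 = 0 from rfl]

/-- The stem extension. -/
theorem exists_cover [Finite G] [Finite T] (hodd : Odd π.range.index) (hst : ∀ g, Stable π z g)
    (hcom : z ∈ commutator T) :
    ∃ (Γ : Type u) (_ : Group Γ) (_ : Finite Γ) (σ : Γ →* G),
      Cfsg.IsStemExtension σ ∧ Nonempty (σ.ker ≃* Multiplicative (ZMod 2)) := by
  classical
  have : Fintype (Cos π) := Fintype.ofFinite _
  choose θ hθ1 hθ2 hθ3 using hst
  have hcz : ∀ t : T, t * z * t⁻¹ = z := fun t => by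
    rw [Subgroup.mem_center_iff.1 hc t, mul_inv_cancel_right]
  -- the lift of the subgroup
  let f : T → Cos π → T := fun p x => θ ((base π x).out)⁻¹ ((sec π (π p • x))⁻¹ * p * sec π x)
  have hf : ∀ p x, π (f p x) = (tr π (π p • x))⁻¹ * π p * tr π x := by
    intro p x
    rw [hθ1 _ _ (sec_mem π p x), tr, tr, base_smul, inv_inv]
    simp only [map_mul, map_inv]
    group
  have hfmul : ∀ p q x, f (p * q) x = f p (π q • x) * f q x := by
    intro p q x
    show θ _ _ = θ _ _ * θ _ _
    rw [base_smul, ← hθ2 _ _ (by have := sec_mem π p (π q • x); rwa [base_smul] at this) _ (sec_mem π q x),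
      map_mul, mul_smul]
    congr 1
    group
  let Φ : T →* Mono π :=
    { toFun := fun p => mkMono π (π p) (f p) (hf p)
      map_one' := ext_ent π (by simp [proj, mkMono]) fun x => by
        show f 1 x * 1 = (1 : T)
        have := hfmul 1 1 x
        rw [mul_one, map_one, one_smul, left_eq_mul] at this
        rw [this, mul_one]
      map_mul' := fun p q => ext_ent π (by simp [proj, mkMono]) fun x => by
        rw [ent_mul]
        show f (p * q) x * 1 = f p (π q • x) * 1 * (f q x * 1)
        rw [mul_one, mul_one, mul_one, hfmul] }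
  have hΦz : ∀ x, ent π (Φ z) x = z := by
    intro x
    show f z x * 1 = z
    have hzk : π z = 1 := (hker z).2 (Or.inr rfl)
    show θ _ _ * 1 = z
    have h' : (sec π x)⁻¹ * z * sec π x = z := by simpa using hcz (sec π x)⁻¹
    rw [hzk, one_smul, mul_one, h', hθ3]
  have hΦp : proj π (Φ z) = 1 := (hker z).2 (Or.inr rfl)
  -- the parity
  let χ : Mono π → ZMod 2 := fun a => ∑ x : Cos π, if ent π a x = z then (1 : ZMod 2) else 0
  have hχ : ∀ a b : Mono π, proj π a = 1 → proj π b = 1 → χ (a * b) = χ a + χ b := by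
    intro a b ha hb
    rw [← Finset.sum_add_distrib]
    refine Finset.sum_congr rfl fun x _ => ?_
    rw [ent_mul, hb, one_smul]
    exact ind_mul π z hker hz1 (ent_ker π z hker ha x) (ent_ker π z hker hb x)
  have hχ1 : χ 1 = 0 := by
    refine Finset.sum_eq_zero fun x _ => if_neg fun h => hz1 ?_
    rw [← h]; rfl
  have hconj : ∀ g a : Mono π, proj π a = 1 → proj π (g * a * g⁻¹) = 1 ∧ χ (g * a * g⁻¹) = χ a := by
    intro g a ha
    have hp : proj π (g * a * g⁻¹) = 1 := by simp [ha]
    refine ⟨hp, ?_⟩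
    refine Fintype.sum_equiv (MulAction.toPerm (proj π g)⁻¹) _ _ fun x => ?_
    show (if ent π (g * a * g⁻¹) x = z then (1 : ZMod 2) else 0) = if ent π a ((proj π g)⁻¹ • x) = z then 1 else 0
    have e1 := ent_mul π (g * a * g⁻¹) g ((proj π g)⁻¹ • x)
    rw [smul_inv_smul, inv_mul_cancel_right, ent_mul, ha, one_smul] at e1
    set w := ent π g ((proj π g)⁻¹ • x)
    rcases ent_ker π z hker ha ((proj π g)⁻¹ • x) with e | e <;> rw [e] at e1 ⊢
    · rw [mul_one, right_eq_mul] at e1
      rw [e1]
    · rw [Subgroup.mem_center_iff.1 hc w] at e1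
      rw [mul_right_cancel e1]
  let N : Subgroup (Mono π) :=
    { carrier := {a | proj π a = 1 ∧ χ a = 0}
      one_mem' := ⟨map_one _, hχ1⟩
      mul_mem' := fun {a b} ha hb => ⟨by rw [map_mul, ha.1, hb.1, one_mul],
        by rw [hχ a b ha.1 hb.1, ha.2, hb.2, add_zero]⟩
      inv_mem' := fun {a} ha => ⟨by rw [map_inv, ha.1, inv_one], by
        have h := hχ a a⁻¹ ha.1 (by rw [map_inv, ha.1, inv_one])
        rw [mul_inv_cancel, hχ1, ha.2, zero_add] at h
        exact h.symm⟩ }
  have : N.Normal := ⟨fun a ha g => ⟨(hconj g a ha.1).1, (hconj g a ha.1).2.trans ha.2⟩⟩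
  let σ : Mono π ⧸ N →* G := QuotientGroup.lift N (proj π) fun a ha => MonoidHom.mem_ker.2 ha.1
  have hχz : χ (Φ z) = 1 := by
    show (∑ x : Cos π, if ent π (Φ z) x = z then (1 : ZMod 2) else 0) = 1
    rw [Finset.sum_congr rfl fun x _ => if_pos (hΦz x), Finset.sum_const, Finset.card_univ, nsmul_one,
      ← Nat.card_eq_fintype_card, ← Subgroup.index_eq_card]
    exact (ZMod.natCast_eq_one_iff_odd).2 hodd
  set zb : Mono π ⧸ N := QuotientGroup.mk (Φ z)
  have hzb : zb ≠ 1 := fun h => by
    have := ((QuotientGroup.eq_one_iff (N := N) (Φ z)).1 h).2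
    rw [hχz] at this
    exact one_ne_zero this
  have hσk : ∀ y : Mono π ⧸ N, σ y = 1 ↔ y = 1 ∨ y = zb := by
    intro y
    constructor
    · obtain ⟨a, rfl⟩ := QuotientGroup.mk_surjective y
      intro ha
      have ha' : proj π a = 1 := ha
      by_cases h0 : χ a = 0
      · exact Or.inl ((QuotientGroup.eq_one_iff a).2 ⟨ha', h0⟩)
      · refine Or.inr (QuotientGroup.eq.2 ⟨by rw [map_mul, map_inv, ha', hΦp, inv_one, one_mul], ?_⟩)
        have hinv : χ a⁻¹ = χ a := by
          have h := hχ a a⁻¹ ha' (by rw [map_inv, ha', inv_one])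
          rw [mul_inv_cancel, hχ1] at h
          calc χ a⁻¹ = χ a + (χ a + χ a⁻¹) := by rw [← add_assoc, CharTwo.add_self_eq_zero, zero_add]
            _ = χ a := by rw [← h, add_zero]
        have h1 : χ a = 1 := by
          generalize χ a = c at h0
          revert h0; revert c; decide
        rw [hχ _ _ (by rw [map_inv, ha', inv_one]) hΦp, hinv, hχz, h1]
        rfl
    · rintro (rfl | rfl)
      · exact map_one σ
      · exact hΦp
  have hcard : Nat.card σ.ker = 2 := by
    rw [← Nat.card_congr (Equiv.refl _), Nat.card_eq_two_iff]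
    refine ⟨1, ⟨zb, (hσk zb).2 (Or.inr rfl)⟩, fun h => hzb (congrArg Subtype.val h).symm, ?_⟩
    refine Set.eq_univ_of_forall fun y => ?_
    rcases (hσk y.1).1 y.2 with h | h
    · exact Or.inl (Subtype.ext h)
    · exact Or.inr (Subtype.ext h)
  refine ⟨Mono π ⧸ N, inferInstance, inferInstance, σ, ⟨?_, ?_, ?_⟩, ⟨?_⟩⟩
  · intro g
    obtain ⟨a, rfl⟩ := proj_surjective π g
    exact ⟨QuotientGroup.mk a, rfl⟩
  · intro y hy
    rw [Subgroup.mem_center_iff]
    intro g
    obtain ⟨a, rfl⟩ := QuotientGroup.mk_surjective y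
    obtain ⟨g, rfl⟩ := QuotientGroup.mk_surjective g
    have ha : proj π a = 1 := hy
    rw [← mul_inv_eq_iff_eq_mul, ← QuotientGroup.mk_mul, ← QuotientGroup.mk_inv, ← QuotientGroup.mk_mul]
    obtain ⟨h1, h2⟩ := hconj g a ha
    refine QuotientGroup.eq.2 ⟨by rw [map_mul, map_inv, h1, ha, inv_one, one_mul], ?_⟩
    rw [hχ _ _ (by rw [map_inv, h1, inv_one]) ha]
    have h3 := hχ (g * a * g⁻¹) (g * a * g⁻¹)⁻¹ h1 (by rw [map_inv, h1, inv_one])
    rw [mul_inv_cancel, hχ1, h2] at h3
    rw [add_comm]
    exact h3.symm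
  · intro y hy
    have hmem : zb ∈ commutator (Mono π ⧸ N) := by
      have h := Subgroup.mem_map_of_mem ((QuotientGroup.mk' N).comp Φ) hcom
      rw [commutator_def, Subgroup.map_commutator] at h
      exact Subgroup.commutator_mono le_top le_top h
    rcases (hσk y).1 hy with rfl | rfl
    · exact one_mem _
    · exact hmem
  · have : Fact (Nat.Prime 2) := ⟨Nat.prime_two⟩
    have hA : Nat.card (Multiplicative (ZMod 2)) = 2 := by
      rw [Nat.card_congr Multiplicative.toAdd, Nat.card_zmod]
    have := isCyclic_of_prime_card hcard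
    exact mulEquivOfCyclicCardEq (hcard.trans hA.symm)

end Construction

end Cfsg.Agent.Lib.F4Mult45
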