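import Cfsg.Agent.Lib.F4Mult45.Basic
import Cfsg.Agent.Lib.F4Mult45.Transfer
import Cfsg.Agent.Lib.Schur.Fusion

/-!
The double cover of the unipotent subgroup of F4(2) inside the product with the permutations of eight points,
and its stability under conjugation, giving a stem extension of F4(2) with kernel of order two.
-/

set_option autoImplicit false
set_option maxRecDepth 100000
set_option linter.unusedSectionVars false

namespace Cfsg.Agent.Lib.F4Mult45

open Cfsg.Lie
open Cfsg.Agent.Lib.ChevStructure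
open Cfsg.Agent.Lib.Schur
open Cfsg.Agent.Lib.Schur.PcCollect.Data (el el_cons el_append)
open scoped MatrixGroups Matrix commutatorElement

universe u

/-- The permutations of the generators. -/
def pm (k : ℕ) : Equiv.Perm (Fin 8) := ((Data.swaps.getD k []).map fun p => Equiv.swap p.1 p.2).prod

/-- The letters below 24 of a word. -/
def low (w : List ℕ) : List ℕ := w.filter fun k => Nat.blt k 24

/-- The index of a generator of the subgroup missing a fundamental root. -/
def eI (s k : ℕ) : ℕ := (Data.idx.getD s []).getD k 0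

/-- The image of that generator under the fundamental reflection. -/
def imw (s k : ℕ) : List ℕ := (Data.img.getD s []).getD k []

theorem ext_check : ((List.range 25).all fun i => (List.range (i + 1)).all fun j =>
    ((Data.pres25.word i j).all fun l => Nat.blt j l && Nat.blt l 25) &&
    decide (el pm (Data.pres25.lhs i j) = el pm (Data.pres25.rhs i j)) &&
    (if Nat.blt i 24 then
      (low (Data.pres25.lhs i j) == Data.pres.lhs i j) && (low (Data.pres25.rhs i j) == Data.pres.rhs i j)
    else low (Data.pres25.lhs i j) == low (Data.pres25.rhs i j))) = true := by decide +kernel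

theorem z_check : (decide (pm 24 ≠ 1) && decide (⁅pm 9, pm 5⁆ * ⁅pm 10, pm 2⁆⁻¹ * ⁅pm 17, pm 0⁆ = pm 24) &&
    (List.range 25).all (fun j => Data.pres25.word 24 j == if j == 24 then [] else [24])) = true := by
  decide +kernel

theorem sub_check : ((List.range 4).all fun s => (List.range 24).all fun i =>
    Nat.blt (eI s i) 25 && (List.range (i + 1)).all fun j =>
    ((Data.presSub s).word i j).all (fun l => Nat.blt j l && Nat.blt l 24) &&
    (decide (i = j) || Nat.blt (eI s j) (eI s i)) &&
    (((Data.presSub s).lhs i j).map (eI s) == Data.pres25.lhs (eI s i) (eI s j)) &&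
    (((Data.presSub s).rhs i j).map (eI s) == Data.pres25.rhs (eI s i) (eI s j)) &&
    decide (el pm (((Data.presSub s).lhs i j).flatMap (imw s)) =
      el pm (((Data.presSub s).rhs i j).flatMap (imw s)))) = true := by decide +kernel

theorem img_check : ((List.finRange chevF4.rank).all fun s =>
    (eI s.val 23 == 24) && (imw s.val 23 == [24]) &&
    ((List.range 24).all fun k => ((low [eI s.val k]).map fun a => C.w s (rt a)) ==
      (low (imw s.val k)).map rt) &&
    ((List.range 24).all fun k => (imw s.val k).all fun a => Nat.blt a 25) &&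
    ((List.range 24).all fun a => decide (rt a = C.p s) || (List.range 24).any fun k => eI s.val k == a)) =
      true := by decide +kernel

variable (F : Type u) [Field F] [Fintype F]

/-- The generators of the double cover of the unipotent subgroup. -/
noncomputable def tg (k : ℕ) : ↥(chevF4.group F) × Equiv.Perm (Fin 8) :=
  (if k < 24 then gel F k else 1, pm k)

/-- The double cover of the unipotent subgroup. -/
noncomputable def cov : Subgroup (↥(chevF4.group F) × Equiv.Perm (Fin 8)) :=
  Subgroup.closure (tg F '' {l | l < Data.pres25.n})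

theorem tg_mem {k : ℕ} (hk : k < 25) : tg F k ∈ cov F := Subgroup.subset_closure ⟨k, hk, rfl⟩

/-- The projection of the double cover. -/
noncomputable def covHom : ↥(cov F) →* ↥(chevF4.group F) :=
  (MonoidHom.fst _ _).comp (cov F).subtype

/-- The kernel element. -/
noncomputable def zel : ↥(cov F) := ⟨tg F 24, tg_mem F (by norm_num)⟩

/-- The monomial element of a word. -/
noncomputable def npw (L : List (Fin chevF4.rank)) : ↥(chevF4.group F) := (L.map (npel F)).prod

variable {F} (hF : Fintype.card F = 2)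
include hF

theorem fst_el : ∀ w : List ℕ, (el (tg F) w).1 = el (gel F) (low w)
  | [] => rfl
  | a :: w => by
    rw [el_cons, Prod.fst_mul, fst_el w]
    simp only [low, List.filter_cons, tg]
    by_cases ha : a < 24
    · rw [if_pos ha, if_pos (by simpa using ha), el_cons]
    · rw [if_neg ha, if_neg (by simpa using ha), one_mul]

omit hF in
theorem snd_el : ∀ w : List ℕ, (el (tg F) w).2 = el pm w
  | [] => rfl
  | a :: w => by rw [el_cons, Prod.snd_mul, snd_el w, el_cons]; rfl

theorem rel25 : ∀ i < Data.pres25.n, ∀ j ≤ i,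
    el (tg F) (Data.pres25.lhs i j) = el (tg F) (Data.pres25.rhs i j) := by
  intro i (hi : i < 25) j hj
  have h := ext_check
  simp only [List.all_eq_true, List.mem_range, Bool.and_eq_true, decide_eq_true_eq] at h
  obtain ⟨⟨-, h2⟩, h3⟩ := h i hi j (by omega)
  refine Prod.ext ?_ (by rw [snd_el, snd_el, h2])
  rw [fst_el hF, fst_el hF]
  split at h3
  · next hi' =>
    simp only [Bool.and_eq_true, beq_iff_eq] at h3
    rw [h3.1, h3.2]
    exact rel hF i (show i < 24 by simpa using hi') j hj
  · rw [beq_iff_eq] at h3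
    rw [h3]

theorem word25 : ∀ i < Data.pres25.n, ∀ j ≤ i, ∀ l ∈ Data.pres25.word i j, j < l ∧ l < Data.pres25.n := by
  intro i (hi : i < 25) j hj l hl
  have h := ext_check
  simp only [List.all_eq_true, List.mem_range, Bool.and_eq_true, Nat.blt_eq] at h
  exact (h i hi j (by omega)).1.1 l hl

theorem strict25 : ∀ j < Data.pres25.n,
    tg F j ∉ Subgroup.closure (tg F '' {l | j < l ∧ l < Data.pres25.n}) := by
  intro j (hj : j < 25) h
  by_cases hj' : j < 24
  · refine strict hF j hj' ?_
    have h2 := Subgroup.mem_map_of_mem (MonoidHom.fst _ (Equiv.Perm (Fin 8))) h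
    rw [MonoidHom.map_closure] at h2
    have e : (MonoidHom.fst ↥(chevF4.group F) (Equiv.Perm (Fin 8))) (tg F j) = gel F j := if_pos hj'
    rw [e] at h2
    refine (Subgroup.closure_le _).2 ?_ h2
    rintro _ ⟨_, ⟨l, ⟨hl, -⟩, rfl⟩, rfl⟩
    show (if l < 24 then gel F l else 1) ∈ _
    split_ifs with hl'
    · exact Subgroup.subset_closure ⟨l, ⟨hl, hl'⟩, rfl⟩
    · exact one_mem _
  · obtain rfl : j = 24 := by omega
    rw [show {l | 24 < l ∧ l < Data.pres25.n} = (∅ : Set ℕ) from Set.eq_empty_of_forall_notMem fun l hl => by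
      have h1 : 24 < l ∧ l < 25 := hl
      omega, Set.image_empty, Subgroup.closure_empty, Subgroup.mem_bot] at h
    have hz := z_check
    simp only [Bool.and_eq_true, decide_eq_true_eq] at hz
    exact hz.1.1 (congrArg Prod.snd h)

theorem finite_prod : Finite (↥(chevF4.group F) × Equiv.Perm (Fin 8)) :=
  have := finite_group hF
  inferInstance

theorem card_cov : Nat.card (cov F) = 2 ^ 25 :=
  have := finite_prod hF
  PcCollect.card_series Data.pres25 Nat.prime_two (tg F) (word25 hF) (rel25 hF) (strict25 hF)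

theorem range_cov : (covHom F).range = unip F := by
  rw [covHom, MonoidHom.range_eq_map, ← Subgroup.map_map, ← MonoidHom.range_eq_map, Subgroup.range_subtype,
    cov, MonoidHom.map_closure, unip]
  refine le_antisymm ((Subgroup.closure_le _).2 ?_) (Subgroup.closure_mono ?_)
  · rintro _ ⟨_, ⟨k, -, rfl⟩, rfl⟩
    show (if k < 24 then gel F k else 1) ∈ _
    split_ifs with hk
    · exact Subgroup.subset_closure ⟨k, hk, rfl⟩
    · exact one_mem _
  · rintro _ ⟨k, hk, rfl⟩
    have hk' : k < 24 := hk
    exact ⟨tg F k, ⟨k, show k < 25 by omega, rfl⟩, if_pos hk'⟩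

theorem zel_ne : zel F ≠ 1 := fun h => by
  have hz := z_check
  simp only [Bool.and_eq_true, decide_eq_true_eq] at hz
  exact hz.1.1 (congrArg (fun t : ↥(cov F) => (t : ↥(chevF4.group F) × Equiv.Perm (Fin 8)).2) h)

theorem covHom_zel : covHom F (zel F) = 1 := by
  show (if 24 < 24 then gel F 24 else 1 : ↥(chevF4.group F)) = 1
  exact if_neg (lt_irrefl 24)

theorem ker_cov (t : ↥(cov F)) : covHom F t = 1 ↔ t = 1 ∨ t = zel F := by
  have := finite_prod hF
  refine ⟨fun ht => ?_, fun h => ?_⟩
  · have h := (covHom F).ker.card_mul_index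
    rw [Subgroup.index_ker, range_cov hF, card_unip hF, card_cov hF,
      show (2 : ℕ) ^ 25 = 2 * 2 ^ 24 by norm_num] at h
    have hk := Nat.eq_of_mul_eq_mul_right (by norm_num) h
    obtain ⟨y, -, hy⟩ := (Nat.card_eq_two_iff' (1 : (covHom F).ker)).1 hk
    have hz : (⟨zel F, covHom_zel hF⟩ : (covHom F).ker) ≠ 1 := fun e =>
      zel_ne hF (congrArg Subtype.val e)
    by_cases h1 : t = 1
    · exact Or.inl h1
    · refine Or.inr ?_
      have e1 := hy ⟨t, ht⟩ fun e => h1 (congrArg Subtype.val e)
      have e2 := hy ⟨zel F, covHom_zel hF⟩ hz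
      exact congrArg Subtype.val (e1.trans e2.symm)
  · rcases h with rfl | rfl
    · exact map_one _
    · exact covHom_zel hF

theorem zel_center : zel F ∈ Subgroup.center ↥(cov F) := by
  rw [Subgroup.mem_center_iff]
  intro t
  refine Subtype.ext ?_
  have hle : cov F ≤ Subgroup.centralizer {tg F 24} := by
    refine (Subgroup.closure_le _).2 ?_
    rintro _ ⟨j, hj, rfl⟩
    rw [SetLike.mem_coe, Subgroup.mem_centralizer_singleton_iff]
    have hj' : j < 25 := hj
    by_cases h24 : j = 24
    · rw [h24]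
    · have h := rel25 hF 24 (by decide) j (by omega)
      have hz := z_check
      simp only [Bool.and_eq_true, List.all_eq_true, List.mem_range, beq_iff_eq] at hz
      have hw := hz.2 j hj'
      rw [if_neg (by simp [h24])] at hw
      rw [PcCollect.Data.lhs, PcCollect.Data.rhs, if_neg (Ne.symm h24), if_neg (Ne.symm h24), hw, el_cons,
        el_cons, el_cons, el_cons, show el (tg F) [] = 1 from rfl, mul_one, mul_one] at h
      exact h.symm
  exact Subgroup.mem_centralizer_singleton_iff.1 (hle t.2)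

theorem zel_comm : zel F ∈ commutator ↥(cov F) := by
  let a : ∀ k, k < 25 → ↥(cov F) := fun k hk => ⟨tg F k, tg_mem F hk⟩
  have e : zel F = ⁅a 9 (by norm_num), a 5 (by norm_num)⁆ * ⁅a 10 (by norm_num), a 2 (by norm_num)⁆⁻¹ *
      ⁅a 17 (by norm_num), a 0 (by norm_num)⁆ := by
    refine Subtype.ext (Prod.ext ?_ ?_)
    · show (1 : ↥(chevF4.group F)) = ⁅gel F 9, gel F 5⁆ * ⁅gel F 10, gel F 2⁆⁻¹ * ⁅gel F 17, gel F 0⁆
      have n1 : rt 9 ≠ rt 5 ∧ rt 9 ≠ (rt 5).rev := by decide
      have n2 : rt 10 ≠ rt 2 ∧ rt 10 ≠ (rt 2).rev := by decide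
      have n3 : rt 17 ≠ rt 0 ∧ rt 17 ≠ (rt 0).rev := by decide
      have n4 : rt 12 ≠ rt 18 ∧ rt 12 ≠ (rt 18).rev := by decide
      have o : oddRoots (rt 9) (rt 5) = [rt 12] ∧ oddRoots (rt 10) (rt 2) = [rt 12, rt 18] ∧
          oddRoots (rt 17) (rt 0) = [rt 18] ∧ oddRoots (rt 12) (rt 18) = [] := by decide +kernel
      have hc : ⁅hel F (rt 12), hel F (rt 18)⁆ = 1 := by rw [hel_comm hF n4.1 n4.2, o.2.2.2]; rfl
      simp only [gel]
      rw [hel_comm hF n1.1 n1.2, hel_comm hF n2.1 n2.2, hel_comm hF n3.1 n3.2, o.1, o.2.1, o.2.2.1]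
      simp only [List.map_cons, List.map_nil, List.prod_cons, List.prod_nil, mul_one]
      rw [(commutatorElement_eq_one_iff_commute.1 hc).eq]
      group
    · have hz := z_check
      simp only [Bool.and_eq_true, decide_eq_true_eq] at hz
      exact hz.1.2.symm
  rw [e, commutator_def]
  exact mul_mem (mul_mem (Subgroup.commutator_mem_commutator (Subgroup.mem_top _) (Subgroup.mem_top _))
    (inv_mem (Subgroup.commutator_mem_commutator (Subgroup.mem_top _) (Subgroup.mem_top _))))
    (Subgroup.commutator_mem_commutator (Subgroup.mem_top _) (Subgroup.mem_top _))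

theorem posBut_lift (i : Fin chevF4.rank) {x : ↥(cov F)}
    (hx : (covHom F x : GL chevF4.Idx F) ∈ C.US F (C.posBut i)) :
    (x : ↥(chevF4.group F) × Equiv.Perm (Fin 8)) ∈
      Subgroup.closure ((fun k => tg F (eI i.val k)) '' {l | l < 24}) := by
  set D := Subgroup.closure ((fun k => tg F (eI i.val k)) '' {l | l < 24}) with hD
  have hc := img_check
  simp only [List.all_eq_true, Bool.and_eq_true, List.any_eq_true, Bool.or_eq_true, decide_eq_true_eq,
    beq_iff_eq, List.mem_range] at hc
  obtain ⟨⟨⟨⟨he, -⟩, -⟩, -⟩, hcov⟩ := hc i (List.mem_finRange i)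
  have hle : C.US F (C.posBut i) ≤
      D.map ((chevF4.group F).subtype.comp (MonoidHom.fst ↥(chevF4.group F) (Equiv.Perm (Fin 8)))) := by
    refine (Subgroup.closure_le _).2 ?_
    rintro _ ⟨r, hr, t, rfl⟩
    rcases eq01 hF t with rfl | rfl
    · rw [C.X_zero]; exact one_mem _
    · obtain ⟨a, ha, rfl⟩ := exists_rt hr.1
      obtain ⟨k, hk, e⟩ := (hcov a ha).resolve_left fun e => hr.2 e
      refine ⟨tg F (eI i.val k), Subgroup.subset_closure ⟨k, hk, rfl⟩, ?_⟩
      show ((if eI i.val k < 24 then gel F (eI i.val k) else 1 : ↥(chevF4.group F)) : GL chevF4.Idx F) = _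
      rw [e, if_pos ha]
      rfl
  obtain ⟨d, hd, hde⟩ := hle hx
  have hz : tg F 24 ∈ D := Subgroup.subset_closure ⟨23, show 23 < 24 by norm_num, by
    show tg F (eI i.val 23) = _
    rw [he]⟩
  have hdc : d ∈ cov F := by
    refine (Subgroup.closure_le _).2 ?_ hd
    rintro _ ⟨k, hk, rfl⟩
    have h := sub_check
    simp only [List.all_eq_true, List.mem_range, Bool.and_eq_true, Nat.blt_eq] at h
    exact tg_mem F (h i.val i.isLt k hk).1
  have hde' : covHom F ⟨d, hdc⟩ = covHom F x := Subtype.ext hde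
  have hk : covHom F (x * ⟨d, hdc⟩⁻¹) = 1 := by rw [map_mul, map_inv, hde', mul_inv_cancel]
  rcases (ker_cov hF _).1 hk with h | h
  · rw [mul_inv_eq_one.1 h]; exact hd
  · rw [mul_inv_eq_iff_eq_mul.1 h]
    exact mul_mem hz hd

/-- The lift of a fundamental reflection on the subgroup missing its root. -/
theorem reflect_lift (i : Fin chevF4.rank) : ∃ θ : ↥(cov F) → ↥(cov F),
    (∀ x : ↥(cov F), (covHom F x : GL chevF4.Idx F) ∈ C.US F (C.posBut i) →
      covHom F (θ x) = npel F i * covHom F x * (npel F i)⁻¹) ∧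
    (∀ x y : ↥(cov F), (covHom F x : GL chevF4.Idx F) ∈ C.US F (C.posBut i) →
      (covHom F y : GL chevF4.Idx F) ∈ C.US F (C.posBut i) → θ (x * y) = θ x * θ y) ∧
    θ (zel F) = zel F := by
  classical
  have := finite_prod hF
  set P : ℕ → (↥(chevF4.group F) × Equiv.Perm (Fin 8)) × (↥(chevF4.group F) × Equiv.Perm (Fin 8)) :=
    fun k => (tg F (eI i.val k), el (tg F) (imw i.val k)) with hP
  set S := Subgroup.closure (P '' {l | l < (Data.presSub i.val).n}) with hSdef
  set D := Subgroup.closure ((fun k => tg F (eI i.val k)) '' {l | l < (Data.presSub i.val).n}) with hD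
  have h := sub_check
  simp only [List.all_eq_true, List.mem_range, Bool.and_eq_true, Bool.or_eq_true, Nat.blt_eq,
    decide_eq_true_eq, beq_iff_eq] at h
  have hs := h i.val i.isLt
  have hc := img_check
  simp only [List.all_eq_true, Bool.and_eq_true, List.any_eq_true, Bool.or_eq_true, decide_eq_true_eq,
    beq_iff_eq, List.mem_range, Nat.blt_eq] at hc
  obtain ⟨⟨⟨⟨he, himg⟩, hw⟩, hlt⟩, -⟩ := hc i (List.mem_finRange i)
  have helP : ∀ w : List ℕ, el P w = (el (tg F) (w.map (eI i.val)), el (tg F) (w.flatMap (imw i.val))) := by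
    intro w
    induction w with
    | nil => rfl
    | cons a w ih => rw [el_cons, ih, List.map_cons, List.flatMap_cons, el_cons, el_append]; rfl
  have hconj : ∀ w : List ℕ, (∀ a ∈ w, a < 24) → el (gel F) (low (w.flatMap (imw i.val))) =
      npel F i * el (gel F) (low (w.map (eI i.val))) * (npel F i)⁻¹ := by
    intro w hw24
    induction w with
    | nil => simp [low, el]
    | cons a w ih =>
      have ha : el (gel F) (low (imw i.val a)) = npel F i * el (gel F) (low [eI i.val a]) * (npel F i)⁻¹ := by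
        rw [el_map hF, el_map hF, ← hw a (hw24 a List.mem_cons_self), ← MulAut.conj_apply, map_list_prod,
          List.map_map, List.map_map, List.map_map]
        exact congrArg List.prod (List.map_congr_left fun b _ => (npel_conj hF _ _).symm)
      rw [List.flatMap_cons, List.map_cons, ← List.singleton_append]
      simp only [low, List.filter_append] at ha ih ⊢
      rw [el_append, el_append, ha, ih fun b hb => hw24 b (List.mem_cons_of_mem _ hb)]
      group
  have hW : ∀ a < (Data.presSub i.val).n, ∀ b ≤ a, ∀ l ∈ (Data.presSub i.val).word a b,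
      b < l ∧ l < (Data.presSub i.val).n :=
    fun a ha b hb l hl => ((hs a ha).2 b (Nat.lt_succ_of_le hb)).1.1.1.1 l hl
  have hlow : ∀ a < (Data.presSub i.val).n, ∀ b ≤ a,
      (∀ c ∈ (Data.presSub i.val).lhs a b, c < 24) ∧ ∀ c ∈ (Data.presSub i.val).rhs a b, c < 24 := by
    intro a ha b hb
    have ha' : a < 24 := ha
    constructor <;> intro c hc
    · rw [PcCollect.Data.lhs] at hc
      split_ifs at hc
      · rw [List.eq_of_mem_replicate hc]; exact ha'
      · simp only [List.mem_cons, List.not_mem_nil, or_false] at hc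
        omega
    · rw [PcCollect.Data.rhs] at hc
      split_ifs at hc
      · exact (hW a ha b hb c hc).2
      · rcases List.mem_cons.1 hc with rfl | hc
        · omega
        · exact (hW a ha b hb c hc).2
  have hrel : ∀ a < (Data.presSub i.val).n, ∀ b ≤ a,
      el P ((Data.presSub i.val).lhs a b) = el P ((Data.presSub i.val).rhs a b) := by
    intro a ha b hb
    obtain ⟨⟨⟨⟨-, hmono⟩, hl⟩, hr⟩, hpm⟩ := (hs a ha).2 b (Nat.lt_succ_of_le hb)
    have hba : eI i.val b ≤ eI i.val a := by
      rcases hmono with rfl | h'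
      · exact le_rfl
      · exact h'.le
    have h1 : el (tg F) (((Data.presSub i.val).lhs a b).map (eI i.val)) =
        el (tg F) (((Data.presSub i.val).rhs a b).map (eI i.val)) := by
      rw [hl, hr]; exact rel25 hF _ (hs a ha).1 _ hba
    rw [helP, helP]
    refine Prod.ext h1 (Prod.ext ?_ (by rw [snd_el, snd_el, hpm]))
    rw [fst_el hF, fst_el hF, hconj _ (hlow a ha b hb).1, hconj _ (hlow a ha b hb).2, ← fst_el hF,
      ← fst_el hF, h1]
  have hrelD : ∀ a < (Data.presSub i.val).n, ∀ b ≤ a,
      el (fun k => tg F (eI i.val k)) ((Data.presSub i.val).lhs a b) =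
        el (fun k => tg F (eI i.val k)) ((Data.presSub i.val).rhs a b) := by
    intro a ha b hb
    have := congrArg Prod.fst (hrel a ha b hb)
    rw [helP, helP] at this
    simpa only [el, List.map_map, Function.comp_def] using this
  have hstrD : ∀ j < (Data.presSub i.val).n, tg F (eI i.val j) ∉
      Subgroup.closure ((fun k => tg F (eI i.val k)) '' {l | j < l ∧ l < (Data.presSub i.val).n}) := by
    intro j hj hmem
    refine strict25 hF (eI i.val j) (hs j hj).1 ((Subgroup.closure_le _).2 ?_ hmem)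
    rintro _ ⟨l, ⟨hjl, hl⟩, rfl⟩
    refine Subgroup.subset_closure ⟨eI i.val l, ⟨?_, (hs l hl).1⟩, rfl⟩
    exact (((hs l hl).2 j (Nat.lt_succ_of_lt hjl)).1.1.1.2).resolve_left (fun e => hjl.ne e.symm)
  have hcardD : Nat.card D = 2 ^ 24 :=
    PcCollect.card_series (Data.presSub i.val) Nat.prime_two _ hW hrelD hstrD
  have hcardS : Nat.card S = 2 ^ 24 := by
    refine PcCollect.card_series (Data.presSub i.val) Nat.prime_two P hW hrel fun j hj hmem => hstrD j hj ?_
    have h2 := Subgroup.mem_map_of_mem (MonoidHom.fst _ (↥(chevF4.group F) × Equiv.Perm (Fin 8))) hmem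
    rw [MonoidHom.map_closure, Set.image_image] at h2
    exact h2
  have hSmap : S.map (MonoidHom.fst _ _) = D := by
    rw [hSdef, MonoidHom.map_closure, Set.image_image]
    rfl
  have hinj : ∀ s ∈ S, ∀ s' ∈ S, s.1 = s'.1 → s = s' := by
    have hb : Function.Bijective
        (fun s : S => (⟨s.1.1, hSmap ▸ Subgroup.mem_map_of_mem (MonoidHom.fst _ _) s.2⟩ : D)) := by
      refine (Nat.bijective_iff_surjective_and_card _).2 ⟨fun ⟨d, hd⟩ => ?_, hcardS.trans hcardD.symm⟩
      rw [← hSmap] at hd
      obtain ⟨s, hs', rfl⟩ := hd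
      exact ⟨⟨s, hs'⟩, rfl⟩
    intro s hs s' hs' e
    exact congrArg Subtype.val (hb.1 (a₁ := ⟨s, hs⟩) (a₂ := ⟨s', hs'⟩) (Subtype.ext e))
  have hsnd : ∀ s ∈ S, s.2 ∈ cov F ∧ s.2.1 = npel F i * s.1.1 * (npel F i)⁻¹ := by
    intro s hs'
    induction hs' using Subgroup.closure_induction with
    | mem x hx =>
      obtain ⟨k, hk, rfl⟩ := hx
      refine ⟨list_prod_mem fun y hy => ?_, ?_⟩
      · obtain ⟨a, ha, rfl⟩ := List.mem_map.1 hy
        exact tg_mem F (hlt k hk a ha)
      · show (el (tg F) (imw i.val k)).1 = npel F i * (tg F (eI i.val k)).1 * (npel F i)⁻¹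
        have e := hconj [k] (by simpa using (show k < 24 from hk))
        rw [show [k].flatMap (imw i.val) = imw i.val k by simp, List.map_singleton] at e
        rw [fst_el hF, e, ← fst_el hF]
        simp [el]
    | one => exact ⟨one_mem _, by simp⟩
    | mul x y _ _ hx hy => exact ⟨mul_mem hx.1 hy.1, by simp only [Prod.snd_mul, Prod.fst_mul, hx.2, hy.2]; group⟩
    | inv x _ hx => exact ⟨inv_mem hx.1, by simp only [Prod.snd_inv, Prod.fst_inv, hx.2]; group⟩
  have hex : ∀ x : ↥(cov F), (covHom F x : GL chevF4.Idx F) ∈ C.US F (C.posBut i) →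
      ∃ b, ((x : ↥(chevF4.group F) × Equiv.Perm (Fin 8)), b) ∈ S := by
    intro x hx
    have hxD := posBut_lift hF i hx
    have hxD' : (x : ↥(chevF4.group F) × Equiv.Perm (Fin 8)) ∈ D := hxD
    rw [← hSmap] at hxD'
    obtain ⟨⟨a, b⟩, hs', he'⟩ := hxD'
    exact ⟨b, he' ▸ hs'⟩
  let θ : ↥(cov F) → ↥(cov F) := fun x =>
    if hx : (covHom F x : GL chevF4.Idx F) ∈ C.US F (C.posBut i) then
      ⟨(hex x hx).choose, (hsnd _ (hex x hx).choose_spec).1⟩ else 1
  have hθ : ∀ x : ↥(cov F), (covHom F x : GL chevF4.Idx F) ∈ C.US F (C.posBut i) →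
      ((x : ↥(chevF4.group F) × Equiv.Perm (Fin 8)), (θ x : ↥(chevF4.group F) × Equiv.Perm (Fin 8))) ∈ S := by
    intro x hx
    simp only [θ, dif_pos hx]
    exact (hex x hx).choose_spec
  refine ⟨θ, fun x hx => (hsnd _ (hθ x hx)).2, fun x y hx hy => ?_, ?_⟩
  · have hxy : (covHom F (x * y) : GL chevF4.Idx F) ∈ C.US F (C.posBut i) := by
      rw [map_mul, Subgroup.coe_mul]; exact mul_mem hx hy
    exact Subtype.ext (congrArg Prod.snd
      (hinj _ (hθ _ hxy) _ (mul_mem (hθ x hx) (hθ y hy)) rfl))
  · have hzp : (covHom F (zel F) : GL chevF4.Idx F) ∈ C.US F (C.posBut i) := by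
      rw [covHom_zel hF]; exact one_mem _
    have hz : ((tg F 24 : ↥(chevF4.group F) × Equiv.Perm (Fin 8)), tg F 24) ∈ S :=
      Subgroup.subset_closure ⟨23, show 23 < 24 by norm_num, by simp [hP, he, himg, el]⟩
    exact Subtype.ext (congrArg Prod.snd (hinj _ (hθ _ hzp) _ hz rfl))

theorem HT_eq_one (c : Fin chevF4.rank → Fˣ) : C.HT F c = 1 := by
  rw [show c = 1 from funext fun j => Units.ext ((eq01 hF _).resolve_left (Units.ne_zero _)), C.HT_one]

omit hF in
theorem npw_coe : ∀ L : List (Fin chevF4.rank), ((npw F L : ↥(chevF4.group F)) : GL chevF4.Idx F) = C.wprod F L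
  | [] => by simp [npw, Core.wprod]
  | i :: L => by rw [C.wprod_cons, ← npw_coe L]; rfl

theorem npel_sq (i : Fin chevF4.rank) : npel F i * npel F i = 1 := by
  obtain ⟨c, hc⟩ := C.P_sq F i
  exact Subtype.ext (hc.trans (HT_eq_one hF c))

theorem stable_npw : ∀ (n : ℕ) (L : List (Fin chevF4.rank)), C.len (C.pprod L) ≤ n →
    Stable (covHom F) (zel F) (npw F L) := by
  intro n
  induction n using Nat.strong_induction_on with
  | _ n ih =>
    intro L hn
    by_cases h1 : C.pprod L = 1
    · obtain ⟨c, hc⟩ := C.wprod_eq_HT_of_pprod_eq_one F h1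
      have e : npw F L = 1 := Subtype.ext (by rw [npw_coe, hc, HT_eq_one hF]; rfl)
      rw [e]
      exact stable_range _ _ (zel_center hF) (one_mem _)
    obtain ⟨i, hi⟩ := C.exists_descent h1
    have hrev := C.pprod_rev L
    have hlen : C.len (C.pprod L) = C.len (C.pprod (L ++ [i])) + 1 := by
      have hp : (C.pprod L * C.sref i) (C.p i) ∈ C.Pos := by
        rw [Equiv.Perm.mul_apply, C.sref_apply, C.w_p, hrev]
        exact C.rev_pos hi
      have := C.len_mul_sref_pos (σ := C.pprod L * C.sref i) (fun r => by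
        rw [← C.pprod_concat]; exact C.pprod_rev _ r) hp
      rw [mul_assoc, C.sref_mul_self, mul_one] at this
      rw [C.pprod_concat]
      exact this
    obtain ⟨θ', h1', h2', h3'⟩ := ih (C.len (C.pprod (L ++ [i]))) (by omega) (L ++ [i]) le_rfl
    obtain ⟨θ, g1, g2, g3⟩ := reflect_lift hF i
    have eL : npw F (L ++ [i]) * npel F i = npw F L := by
      rw [npw, List.map_append, List.prod_append, List.map_singleton, List.prod_singleton, mul_assoc,
        npel_sq hF, mul_one]
      rfl
    have hdom : ∀ x ∈ Dom (covHom F) (npw F L),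
        (covHom F x : GL chevF4.Idx F) ∈ C.US F (C.posBut i) := by
      intro x hx
      rw [mem_Dom, range_cov hF, mem_unip hF] at hx
      have hxU : (covHom F x : GL chevF4.Idx F) ∈ C.US F C.Pos := by
        rw [← mem_unip hF, ← range_cov hF]; exact ⟨x, rfl⟩
      obtain ⟨a, ha, v, hv, e⟩ := commOK.exists_factor (A := {r | C.pprod L r ∈ C.Pos})
        (S := {r | C.pprod L r ∈ C.Neg}) (fun r _ => (em _).imp_right (C.neg_iff_not_pos _).2) hxU
      have hacts : C.Acts (C.wprod F L) (C.pprod L) := C.acts_wprod F L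
      have ha' : C.wprod F L * a * (C.wprod F L)⁻¹ ∈ C.US F C.Pos :=
        C.conj_mem_US F hacts (fun r hr => hr.1) ha
      have hv' : C.wprod F L * v * (C.wprod F L)⁻¹ ∈ C.US F C.Neg :=
        C.conj_mem_US F hacts (fun r hr => hr.1) hv
      have hv1 : C.wprod F L * v * (C.wprod F L)⁻¹ = 1 := by
        rw [← Subgroup.mem_bot, ← C.borel_inf_negUS]
        refine Subgroup.mem_inf.2 ⟨C.posUS_le_borel ?_, hv'⟩
        have e4 : C.wprod F L * v * (C.wprod F L)⁻¹ = (C.wprod F L * a * (C.wprod F L)⁻¹)⁻¹ *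
            (C.wprod F L * (covHom F x : GL chevF4.Idx F) * (C.wprod F L)⁻¹) := by rw [e]; group
        rw [e4]
        refine mul_mem (inv_mem ha') ?_
        simpa [npw_coe] using hx
      rw [conj_eq_one_iff] at hv1
      rw [e, hv1, mul_one]
      refine C.US_mono F ?_ ha
      rintro r ⟨hr1, hr2⟩
      refine ⟨hr2, fun hri => ?_⟩
      rw [Set.mem_singleton_iff] at hri
      subst hri
      exact (C.neg_iff_not_pos _).1 hi hr1
    have hdom' : ∀ x ∈ Dom (covHom F) (npw F L), θ x ∈ Dom (covHom F) (npw F (L ++ [i])) := by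
      intro x hx
      have h' := hx
      rw [mem_Dom] at h' ⊢
      rw [g1 x (hdom x hx)]
      convert h' using 1
      rw [← eL]
      group
    refine ⟨fun x => θ' (θ x), fun x hx => ?_, fun x hx y hy => ?_, ?_⟩
    · show covHom F (θ' (θ x)) = _
      rw [h1' _ (hdom' x hx), g1 x (hdom x hx), ← eL]
      group
    · show θ' (θ (x * y)) = θ' (θ x) * θ' (θ y)
      rw [g2 x y (hdom x hx) (hdom y hy), h2' _ (hdom' x hx) _ (hdom' y hy)]
    · show θ' (θ (zel F)) = zel F
      rw [g3, h3']

theorem stable_all (g : ↥(chevF4.group F)) : Stable (covHom F) (zel F) g := by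
  obtain ⟨σ, b, hb, u, hu, e⟩ := commOK.exists_normalForm g.2
  obtain ⟨w, hw, k, hk, rfl⟩ := C.mem_borel_iff.1 hb
  obtain ⟨c, rfl⟩ := C.mem_diagonal_iff.1 hk
  rw [HT_eq_one hF, mul_one] at e
  obtain ⟨L, hL⟩ : ∃ L, C.wprod F L = C.rep F σ := ⟨_, rfl⟩
  have hu' : u ∈ C.US F C.Pos := C.US_mono F (fun r hr => hr.1) hu
  have hwG : w ∈ chevF4.group F := C.US_le_group _ hw
  have huG : u ∈ chevF4.group F := C.US_le_group _ hu'
  have eg : g = ⟨w, hwG⟩ * npw F L * ⟨u, huG⟩ := Subtype.ext (by
    rw [e, ← hL, Subgroup.coe_mul, Subgroup.coe_mul, npw_coe])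
  rw [eg]
  refine stable_mul_mul _ _ (zel_center hF) ?_ ?_ (stable_npw hF _ L le_rfl)
  · rw [range_cov hF, mem_unip hF]; exact hw
  · rw [range_cov hF, mem_unip hF]; exact hu'

/-- A stem extension with kernel of order two. -/
theorem exists_cover_F4 :
    ∃ (Γ : Type u) (_ : Group Γ) (_ : Finite Γ) (σ : Γ →* ↥(chevF4.group F)),
      Cfsg.IsStemExtension σ ∧ Nonempty (σ.ker ≃* Multiplicative (ZMod 2)) := by
  have := finite_group hF
  have := finite_prod hF
  refine exists_cover (covHom F) (zel F) (ker_cov hF) (zel_ne hF) (zel_center hF) ?_ (stable_all hF)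
    (zel_comm hF)
  rw [range_cov hF, unip_index hF]
  decide

end Cfsg.Agent.Lib.F4Mult45
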